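import Cfsg.Agent.Lib.Chev.Suz2.ZassKernel
import Cfsg.Agent.Lib.Perm.ZassG.SimpleEven
import Cfsg.Prelude.Def_Exceptional

/-!
Simple Zassenhaus groups with a non-abelian `2`-kernel: order consequences.
-/

open MulAction Cfsg CfsgLib.Perm.ZassG

namespace CfsgLib.Chev.Suz2

variable {G Ω : Type*} [Group G] [MulAction G Ω] [Finite G] [Finite Ω] [IsSimpleGroup G]

theorem ctx_of_simple (hZ : Cfsg.IsZassenhausGroup G Ω) {a b : Ω} (hab : a ≠ b) {F : Subgroup G}
    (hF : IsKernel a F) (h2 : IsPGroup 2 F) (hna : ∃ u v : F, u * v ≠ v * u) : Ctx G a b F := by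
  refine ⟨hZ, hab, inverted_of_simple hZ hab ?_, hF, h2, hna⟩
  rcases Nat.even_or_odd (Nat.card (pairStab G a b)) with he | ho
  · exfalso
    have hc := half_of_simple hZ hab he.two_dvd hF
    haveI := Fact.mk Nat.prime_two
    obtain ⟨j, hj⟩ := IsPGroup.iff_card.1 h2
    rcases j with _ | j
    · have h1 : 0 < Nat.card (pairStab G a b) := Nat.card_pos
      rw [pow_zero] at hj
      omega
    · rw [pow_succ] at hj
      omega
  · exact ho

theorem Ctx.isSuzuki {a b : Ω} {F : Subgroup G} (hC : Ctx G a b F) : Cfsg.IsSuzuki G := by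
  obtain ⟨n, ⟨m, rfl⟩, hn1, hq, -, -, hF⟩ := hC.kernel_card
  refine ⟨‹_›, m, by omega, ?_⟩
  have hΩ := hC.ker.card_add_one hC.ne
  rw [hC.ker.card_group hC.zass hC.ne, ← hΩ, hF]
  rw [Nat.eq_sub_of_add_eq hq]
  ring

end CfsgLib.Chev.Suz2
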