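/-
Elementary abelian 2-groups with an automorphism transitive on the involutions, as fields.
-/
import Mathlib

set_option autoImplicit false

namespace CfsgLib.Chev.Suz2

/-- the powers of the automorphism connect any two involutions -/
def Trans {P : Type*} [Group P] (k : MulAut P) : Prop :=
  ∀ x y : P, x ≠ 1 → x * x = 1 → y ≠ 1 → y * y = 1 → ∃ i : ℕ, (k ^ i) x = y

lemma pow_apply_succ {P : Type*} [Group P] (k : MulAut P) (i : ℕ) (x : P) :
    (k ^ (i + 1)) x = k ((k ^ i) x) := by
  rw [pow_succ', MulAut.mul_apply]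

lemma exists_restrict {P : Type*} [Group P] [Finite P] (k : MulAut P) (H : Subgroup P)
    (h : ∀ x ∈ H, k x ∈ H) :
    ∃ k' : MulAut ↥H, ∀ (i : ℕ) (x : ↥H), ((k' ^ i) x : P) = (k ^ i) (x : P) := by
  let f : ↥H →* ↥H := (k.toMonoidHom.comp H.subtype).codRestrict H fun x => h x x.2
  have hf : Function.Injective f := fun x y e =>
    Subtype.ext (k.injective (congrArg Subtype.val e))
  refine ⟨MulEquiv.ofBijective f ⟨hf, Finite.surjective_of_injective hf⟩, fun i => ?_⟩
  induction i with
  | zero => intro x; rfl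
  | succ i ih => intro x; rw [pow_apply_succ, pow_apply_succ, ← ih x]; rfl

/-- coordinates in a field with two to the `n` elements -/
theorem exists_coord {A : Type*} [CommGroup A] [Finite A] [Nontrivial A]
    (hexp : ∀ a : A, a * a = 1) (k : MulAut A) (ht : Trans k) :
    ∃ (n : ℕ) (i : A → GaloisField 2 n) (c : GaloisField 2 n), n ≠ 0 ∧ Function.Bijective i ∧
      (∀ a b, i (a * b) = i a + i b) ∧ (∀ a, i (k a) = c * i a) ∧
      ∀ x : GaloisField 2 n, x ≠ 0 → ∃ j : ℕ, x = c ^ j := by
  classical
  let K : AddMonoid.End (Additive A) := MonoidHom.toAdditive k.toMonoidHom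
  set R : Subring (AddMonoid.End (Additive A)) := Subring.centralizer {K} with hR
  obtain ⟨a₀, ha₀⟩ := exists_ne (1 : A)
  set o : Additive A := Additive.ofMul a₀ with ho
  have hKmem : K ∈ R := Subring.mem_centralizer_iff.2 fun g hg => by rw [Set.mem_singleton_iff.1 hg]
  have hKpow : ∀ (j : ℕ) (a : A), (K ^ j) (Additive.ofMul a) = Additive.ofMul ((k ^ j) a) := by
    intro j
    induction j with
    | zero => intro a; rfl
    | succ j ih =>
      intro a
      rw [pow_succ', pow_apply_succ]
      show K ((K ^ j) _) = _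
      rw [ih]; rfl
  have horb : ∀ v : Additive A, v ≠ 0 → ∃ j : ℕ, (K ^ j) o = v := by
    intro v hv
    obtain ⟨j, hj⟩ := ht a₀ (Additive.toMul v) ha₀ (hexp _) (fun e => hv e) (hexp _)
    exact ⟨j, by rw [ho, hKpow, hj]; rfl⟩
  have hcomm : ∀ r : ↥R, ∀ (j : ℕ) (v : Additive A), r.1 ((K ^ j) v) = (K ^ j) (r.1 v) := by
    intro r j v
    have : Commute K r.1 := Subring.mem_centralizer_iff.1 r.2 K rfl
    exact (DFunLike.congr_fun (this.pow_left j).eq v).symm
  have heval : ∀ r s : ↥R, r.1 o = s.1 o → r = s := by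
    intro r s e
    refine Subtype.ext (DFunLike.ext _ _ fun v => ?_)
    rcases eq_or_ne v 0 with rfl | hv
    · rw [map_zero, map_zero]
    · obtain ⟨j, rfl⟩ := horb v hv
      rw [hcomm, hcomm, e]
  have hpow : ∀ r : ↥R, r ≠ 0 → ∃ j : ℕ, r = ⟨K, hKmem⟩ ^ j := by
    intro r hr
    have : r.1 o ≠ 0 := fun e => hr (heval r 0 e)
    obtain ⟨j, hj⟩ := horb _ this
    exact ⟨j, heval _ _ hj.symm⟩
  have hsurj : Function.Surjective fun r : ↥R => r.1 o := by
    intro v
    rcases eq_or_ne v 0 with rfl | hv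
    · exact ⟨0, rfl⟩
    · obtain ⟨j, rfl⟩ := horb v hv
      exact ⟨⟨K, hKmem⟩ ^ j, rfl⟩
  have hbij : Function.Bijective fun r : ↥R => r.1 o := ⟨fun r s => heval r s, hsurj⟩
  have hco : ∀ r s : ↥R, r * s = s * r := by
    intro r s
    rcases eq_or_ne r 0 with rfl | hr
    · simp
    obtain ⟨j, rfl⟩ := hpow r hr
    rcases eq_or_ne s 0 with rfl | hs
    · simp
    obtain ⟨l, rfl⟩ := hpow s hs
    rw [← pow_add, ← pow_add, add_comm]
  letI : CommRing ↥R := { (inferInstance : Ring ↥R) with mul_comm := hco }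
  have hfield : IsField ↥R := by
    refine ⟨⟨0, 1, fun e => ?_⟩, hco, fun {r} hr => ?_⟩
    · apply ha₀
      exact Additive.ofMul.injective (congrArg (fun s : ↥R => s.1 o) e).symm
    · obtain ⟨j, rfl⟩ := hpow r hr
      have hinj : Function.Injective fun s : ↥R => (⟨K, hKmem⟩ : ↥R) ^ j * s := by
        intro s t e
        refine heval s t ?_
        have e' : (K ^ j) (s.1 o) = (K ^ j) (t.1 o) := congrArg (fun u : ↥R => u.1 o) e
        have hKinj : Function.Injective (K ^ j) := fun u v huv => by
          have h' : (K ^ j) (Additive.ofMul (Additive.toMul u)) =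
              (K ^ j) (Additive.ofMul (Additive.toMul v)) := huv
          rw [hKpow, hKpow] at h'
          exact (k ^ j).injective (Additive.ofMul.injective h')
        exact hKinj e'
      have : Finite ↥R := Finite.of_injective _ hbij.injective
      exact (Finite.surjective_of_injective hinj) 1
  letI : Field ↥R := hfield.toField
  have : Finite ↥R := Finite.of_injective _ hbij.injective
  have h2 : (2 : ↥R) = 0 := heval _ _ (by
    rw [← one_add_one_eq_two]
    exact congrArg Additive.ofMul (hexp a₀))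
  haveI : CharP ↥R 2 := CharTwo.of_one_ne_zero_of_two_eq_zero one_ne_zero h2
  obtain ⟨p, n, hp, hpn⟩ : ∃ p n : ℕ, p = 2 ∧ Nat.card ↥R = p ^ n := by
    have := Fintype.ofFinite ↥R
    obtain ⟨n, -, hn⟩ := FiniteField.card ↥R 2
    exact ⟨2, n, rfl, by rw [Nat.card_eq_fintype_card, hn]⟩
  subst hp
  have hn0 : n ≠ 0 := by
    rintro rfl
    have := Finite.one_lt_card (α := ↥R)
    rw [hpn] at this
    simp at this
  have := Fintype.ofFinite ↥R
  have := Fintype.ofFinite (GaloisField 2 n)
  let ρ : ↥R ≃+* GaloisField 2 n := FiniteField.ringEquivOfCardEq (K := ↥R) (K' := GaloisField 2 n) (by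
    rw [← Nat.card_eq_fintype_card, ← Nat.card_eq_fintype_card, GaloisField.card 2 n hn0, hpn])
  let i : A → GaloisField 2 n := fun a => ρ ((Equiv.ofBijective _ hbij).symm (Additive.ofMul a))
  have hi : ∀ a, ((Equiv.ofBijective _ hbij).symm (Additive.ofMul a)).1 o = Additive.ofMul a := fun a =>
    (Equiv.ofBijective _ hbij).apply_symm_apply (Additive.ofMul a)
  refine ⟨n, i, ρ ⟨K, hKmem⟩, hn0, ?_, fun a b => ?_, fun a => ?_, fun x hx => ?_⟩
  · exact ρ.bijective.comp ((Equiv.ofBijective _ hbij).symm.bijective.comp Additive.ofMul.bijective)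
  · simp only [i, ← map_add]
    congr 1
    refine heval _ _ ?_
    exact (hi (a * b)).trans (congrArg₂ (fun u v : Additive A => u + v) (hi a) (hi b)).symm
  · simp only [i, ← map_mul]
    congr 1
    refine heval _ _ ?_
    exact (hi (k a)).trans (congrArg K (hi a)).symm
  · obtain ⟨j, hj⟩ := hpow (ρ.symm x) (by simpa using hx)
    refine ⟨j, ?_⟩
    rw [← map_pow, ← hj, ρ.apply_symm_apply]

/-- an equivariant alternating form with values in the same module vanishes -/
theorem alternating_eq_zero {F : Type*} [Field F] [Finite F] [CharP F 2] {c : F}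
    (hc : ∀ x : F, x ≠ 0 → ∃ j : ℕ, x = c ^ j) (β : F → F → F)
    (hadd : ∀ u v w, β u (v + w) = β u v + β u w) (hadd' : ∀ u v w, β (u + v) w = β u w + β v w)
    (heq : ∀ u v, β (c * u) (c * v) = c * β u v) (halt : ∀ u, β u u = 0) (u v : F) : β u v = 0 := by
  have heq' : ∀ a u v, a ≠ 0 → β (a * u) (a * v) = a * β u v := by
    intro a u v ha
    obtain ⟨j, rfl⟩ := hc a ha
    clear ha
    induction j with
    | zero => simp
    | succ j ih => rw [pow_succ', mul_assoc, mul_assoc, heq, ih, mul_assoc]
  have h0 : ∀ u, β u 0 = 0 := fun u => by simpa using hadd u 0 0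
  have h0' : ∀ u, β 0 u = 0 := fun u => by simpa using hadd' 0 0 u
  have hsym : ∀ u v, β u v = β v u := fun u v => by
    have h := halt (u + v)
    rw [hadd', hadd, hadd, halt, halt, zero_add, add_zero] at h
    exact CharTwo.add_eq_zero.1 h
  set f : F → F := fun x => β 1 x with hf
  have f1 : f 1 = 0 := halt 1
  have fadd : ∀ x y, f (x + y) = f x + f y := fun x y => hadd 1 x y
  have finv : ∀ x, x ≠ 0 → f x⁻¹ = x⁻¹ * f x := by
    intro x hx
    have := heq' x⁻¹ 1 x (inv_ne_zero hx)
    rw [mul_one, inv_mul_cancel₀ hx, hsym] at this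
    exact this
  have fsq : ∀ x, f (x * x) = 0 := by
    intro x
    rcases eq_or_ne x 0 with rfl | hx
    · rw [mul_zero]; exact h0 1
    rcases eq_or_ne (x + 1) 0 with e | hx1
    · rw [CharTwo.add_eq_zero] at e; subst e; rw [mul_one]; exact f1
    have key : x⁻¹ + (x + 1)⁻¹ = (x * x + x)⁻¹ := by
      have h' : x * x + x = x * (x + 1) := by ring
      rw [h', inv_add_inv hx hx1, mul_inv, ← add_assoc, CharTwo.add_self_eq_zero, zero_add, one_div,
        mul_inv]
    have hne : x * x + x ≠ 0 := by
      rw [show x * x + x = x * (x + 1) by ring]; exact mul_ne_zero hx hx1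
    have e1 := congrArg f key
    rw [fadd, finv _ hx, finv _ hx1, finv _ hne, fadd, fadd, f1, add_zero, ← add_mul, key] at e1
    have e2 := mul_left_cancel₀ (inv_ne_zero hne) e1
    linear_combination -e2
  have hfz : ∀ x, f x = 0 := by
    intro x
    obtain ⟨y, rfl⟩ : ∃ y, y * y = x := by
      have hinj : Function.Injective fun y : F => y * y := fun a b (e : a * a = b * b) => by
        have : (a + b) * (a + b) = 0 := by
          rw [show (a + b) * (a + b) = a * a + b * b + (a * b + a * b) by ring, CharTwo.add_self_eq_zero,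
            add_zero, e, CharTwo.add_self_eq_zero]
        exact CharTwo.add_eq_zero.1 (mul_self_eq_zero.1 this)
      exact Finite.surjective_of_injective hinj x
    exact fsq y
  rcases eq_or_ne u 0 with rfl | hu
  · exact h0' v
  have := heq' u 1 (v / u) hu
  rw [mul_one, mul_div_cancel₀ v hu] at this
  rw [this, show β 1 (v / u) = 0 from hfz _, mul_zero]

end CfsgLib.Chev.Suz2
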