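/-
In a Suzuki 2-group all squares are central.
-/
import Cfsg.Agent.Lib.Chev.Suz2.Center
import Cfsg.Agent.Lib.Chev.Field.AutSpan

set_option autoImplicit false

namespace CfsgLib.Chev.Suz2

universe u

/-! ### fixed points in cosets -/

theorem exists_fixed_coset (m : ℕ) (hm : Odd m) : ∀ (P : Type u) [Group P] [Finite P],
    IsPGroup 2 P → ∀ (k : MulAut P), k ^ m = 1 → ∀ (H : Subgroup P), (∀ h ∈ H, k h ∈ H) →
      ∀ x : P, x⁻¹ * k x ∈ H → ∃ h ∈ H, k (x * h) = x * h := by
  induction m using Nat.strong_induction_on with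
  | _ m ih =>
  intro P _ _ hP k hkm H hH x hx
  classical
  rcases eq_or_ne m 1 with rfl | hm1
  · rw [pow_one] at hkm
    exact ⟨1, one_mem _, by rw [hkm]; rfl⟩
  set p := m.minFac with hp
  have hpp : p.Prime := Nat.minFac_prime hm1
  haveI := Fact.mk hpp
  have hp2 : p ≠ 2 := by
    intro e
    have := Nat.minFac_dvd m
    rw [← hp, e] at this
    exact (Nat.not_even_iff_odd.2 hm) (even_iff_two_dvd.2 this)
  obtain ⟨m', hm'⟩ : p ∣ m := Nat.minFac_dvd m
  have hkH : ∀ (i : ℕ) (y : P), x⁻¹ * y ∈ H → x⁻¹ * (k ^ i) y ∈ H := by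
    intro i
    induction i with
    | zero => intro y hy; simpa using hy
    | succ i ihi =>
      intro y hy
      rw [pow_apply_succ]
      have := mul_mem hx (hH _ (ihi y hy))
      rwa [map_mul, map_inv, ← mul_assoc, mul_assoc x⁻¹ (k x) (k x)⁻¹, mul_inv_cancel, mul_one] at this
  set l := k ^ m' with hl
  have : Fintype {y : P // x⁻¹ * y ∈ H} := Fintype.ofFinite _
  let f : {y : P // x⁻¹ * y ∈ H} → {y : P // x⁻¹ * y ∈ H} := fun y => ⟨l y, hkH m' y y.2⟩
  have hf : Function.Injective f := fun a b e => Subtype.ext (l.injective (congrArg Subtype.val e))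
  let e : Equiv.Perm {y : P // x⁻¹ * y ∈ H} := Equiv.ofBijective f ⟨hf, Finite.surjective_of_injective hf⟩
  have he : ∀ (i : ℕ) y, ((e ^ i) y : P) = (l ^ i) (y : P) := by
    intro i
    induction i with
    | zero => intro y; rfl
    | succ i ihi =>
      intro y
      rw [pow_succ', Equiv.Perm.mul_apply, pow_apply_succ, ← ihi]
      rfl
  have hep : e ^ p ^ 1 = 1 := by
    ext y
    rw [he, pow_one, hl, ← pow_mul, mul_comm, ← hm', hkm]
    rfl
  have hcard : ¬ p ∣ Fintype.card {y : P // x⁻¹ * y ∈ H} := by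
    rw [← Nat.card_eq_fintype_card, Nat.card_congr (α := {y : P // x⁻¹ * y ∈ H}) (β := ↥H)
      ⟨fun y => ⟨x⁻¹ * y.1, y.2⟩, fun h => ⟨x * h.1, by rw [inv_mul_cancel_left]; exact h.2⟩,
        fun y => Subtype.ext (mul_inv_cancel_left x _), fun h => Subtype.ext (inv_mul_cancel_left x _)⟩]
    haveI := Fact.mk Nat.prime_two
    obtain ⟨j, hj⟩ := IsPGroup.iff_card.1 (hP.to_subgroup H)
    rw [hj]
    intro hd
    exact hp2 ((Nat.prime_dvd_prime_iff_eq hpp Nat.prime_two).1 (hpp.dvd_of_dvd_pow hd))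
  obtain ⟨⟨y, hy⟩, hy'⟩ := Equiv.Perm.exists_fixed_point_of_prime (p := p) (n := 1) hcard hep
  have hly : l y = y := congrArg Subtype.val hy'
  -- descend to the fixed points
  let G₁ : Subgroup P := MonoidHom.eqLocus l.toMonoidHom (MonoidHom.id P)
  have hG₁ : ∀ z, z ∈ G₁ ↔ l z = z := fun z => Iff.rfl
  have hkG₁ : ∀ z ∈ G₁, k z ∈ G₁ := fun z hz => by
    rw [hG₁] at hz ⊢
    rw [hl, ← MulAut.mul_apply, (Commute.pow_self k m').eq, MulAut.mul_apply, ← hl, hz]
  obtain ⟨k₁, hk₁⟩ := exists_restrict k G₁ hkG₁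
  have hk₁m : k₁ ^ m' = 1 := MulEquiv.ext fun z => Subtype.ext (by
    rw [hk₁]; exact (hG₁ z).1 z.2)
  have hlt : m' < m := by
    have := hpp.two_le
    have : 0 < m' := Nat.pos_of_ne_zero fun e => by rw [hm', e, mul_zero] at hm; exact (Nat.not_odd_iff_even.2 (by simp)) hm
    rw [hm']
    calc m' = 1 * m' := (one_mul _).symm
      _ < p * m' := by gcongr; omega
  have hodd' : Odd m' := (Nat.odd_mul.1 (hm' ▸ hm)).2
  have hk₁' : ∀ z : ↥G₁, (k₁ z : P) = k z := fun z => by
    have := hk₁ 1 z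
    rwa [pow_one, pow_one] at this
  obtain ⟨h, hh, hfix⟩ := ih m' hlt hodd' ↥G₁ (hP.to_subgroup G₁) k₁ hk₁m (H.subgroupOf G₁)
    (fun z hz => by
      rw [Subgroup.mem_subgroupOf] at hz ⊢
      rw [hk₁']
      exact hH _ hz)
    ⟨y, hly⟩ (by
      rw [Subgroup.mem_subgroupOf]
      show y⁻¹ * (k₁ ⟨y, hly⟩ : P) ∈ H
      rw [hk₁']
      have h1 := hkH 1 y hy
      rw [pow_one] at h1
      have := mul_mem (inv_mem hy) h1
      rwa [mul_inv_rev, inv_inv, mul_assoc, mul_inv_cancel_left] at this)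
  refine ⟨x⁻¹ * (y * h), ?_, ?_⟩
  · rw [← mul_assoc]; exact mul_mem hy hh
  · rw [mul_inv_cancel_left]
    have := congrArg Subtype.val hfix
    rw [hk₁'] at this
    exact this

/-! ### an odd power of the automorphism -/

theorem exists_odd_power {P : Type*} [Group P] [Finite P] (hP : IsPGroup 2 P) (k : MulAut P) (hk : Trans k)
    (h2 : ∃ a b : P, a ≠ b ∧ a ≠ 1 ∧ a * a = 1 ∧ b ≠ 1 ∧ b * b = 1) :
    ∃ (k' : MulAut P) (m : ℕ), Odd m ∧ k' ^ m = 1 ∧ (∃ i, k' = k ^ i) ∧
      ∀ z : P, z * z = 1 → k' z = z → z = 1 := by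
  classical
  haveI := Fact.mk Nat.prime_two
  have : Finite (MulAut P) := Finite.of_injective (fun e : MulAut P => (e : P → P)) DFunLike.coe_injective
  obtain ⟨s, m, hm, hsm⟩ := Nat.exists_eq_pow_mul_and_not_dvd (orderOf_pos k).ne' 2 (by norm_num)
  refine ⟨k ^ 2 ^ s, m, Nat.odd_iff.2 (by omega), by rw [← pow_mul, ← hsm, pow_orderOf_eq_one],
    ⟨_, rfl⟩, fun z hz hkz => ?_⟩
  by_contra hz1
  let I := {w : P // w ≠ 1 ∧ w * w = 1}
  have : Fintype I := Fintype.ofFinite _
  let f : I → I := fun w => ⟨k w, fun h => w.2.1 (k.injective (h.trans (map_one k).symm)),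
    by rw [← map_mul, w.2.2, map_one]⟩
  have hf : Function.Injective f := fun a b e => Subtype.ext (k.injective (congrArg Subtype.val e))
  let e : Equiv.Perm I := Equiv.ofBijective f ⟨hf, Finite.surjective_of_injective hf⟩
  have he : ∀ (i : ℕ) w, ((e ^ i) w : P) = (k ^ i) (w : P) := by
    intro i
    induction i with
    | zero => intro w; rfl
    | succ i ihi => intro w; rw [pow_succ', Equiv.Perm.mul_apply, pow_apply_succ, ← ihi]; rfl
  have hes : e ^ 2 ^ s = 1 := by
    ext w
    rw [he]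
    obtain ⟨i, hi⟩ := hk z w hz1 hz w.2.1 w.2.2
    rw [← hi, ← MulAut.mul_apply, (Commute.pow_pow_self k _ _).eq, MulAut.mul_apply, hkz]
    exact hi
  have hodd : ¬ 2 ∣ Fintype.card I := by
    intro hd
    set Z := Subgroup.center P
    have hI : Nat.card {w : P // w * w = 1} = Nat.card I + 1 := by
      rw [← Finite.card_option]
      exact Nat.card_congr
        { toFun := fun w => if h : w.1 = 1 then none else some ⟨w.1, h, w.2⟩
          invFun := fun o => o.elim ⟨1, one_mul 1⟩ fun w => ⟨w.1, w.2.2⟩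
          left_inv := fun w => by
            by_cases h : w.1 = 1
            · simp only [h, dite_true, Option.elim]; exact Subtype.ext h.symm
            · simp [h]
          right_inv := fun o => by
            cases o with
            | none => simp
            | some w => simp [w.2.1] }
    let S : Subgroup P :=
      { carrier := {w | w * w = 1}
        one_mem' := one_mul 1
        mul_mem' := fun {a b} ha hb => by
          have h := Subgroup.mem_center_iff.1 (invol_central hP k hk ha) b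
          show a * b * (a * b) = 1
          rw [mul_assoc a b, ← mul_assoc b a b, h, mul_assoc a b, hb, mul_one]
          exact ha
        inv_mem' := fun {a} ha => by
          show a⁻¹ * a⁻¹ = 1
          rw [← mul_inv_rev, show a * a = 1 from ha, inv_one] }
    obtain ⟨j, hj⟩ := IsPGroup.iff_card.1 (hP.to_subgroup S)
    change Nat.card {w : P // w * w = 1} = 2 ^ j at hj
    rw [hI, Nat.card_eq_fintype_card] at hj
    have : 2 ∣ 2 ^ j := by
      refine dvd_pow_self 2 ?_
      rintro rfl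
      have : 0 < Fintype.card I := Fintype.card_pos_iff.2 ⟨⟨z, hz1, hz⟩⟩
      omega
    omega
  obtain ⟨w, hw⟩ := Equiv.Perm.exists_fixed_point_of_prime (p := 2) hodd hes
  have hkw : k (w : P) = w := congrArg Subtype.val hw
  have hall : ∀ i : ℕ, (k ^ i) (w : P) = w := by
    intro i
    induction i with
    | zero => rfl
    | succ i ihi => rw [pow_apply_succ, ihi, hkw]
  obtain ⟨a, b, hab, ha, ha', hb, hb'⟩ := h2
  obtain ⟨i, hi⟩ := hk w a w.2.1 w.2.2 ha ha'
  obtain ⟨j, hj⟩ := hk w b w.2.1 w.2.2 hb hb'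
  exact hab (by rw [← hi, ← hj, hall, hall])

/-- an invariant subgroup with a central element of order above two is abelian -/
theorem abelian_of_central {P : Type*} [Group P] [Finite P] (hP : IsPGroup 2 P) (k : MulAut P) (hk : Trans k)
    (H : Subgroup P) (hH : ∀ h ∈ H, k h ∈ H) {a : P} (ha : a ∈ H) (hac : ∀ h ∈ H, h * a = a * h)
    (ha2 : a * a ≠ 1) : ∀ x ∈ H, ∀ y ∈ H, x * y = y * x := by
  intro x hx y hy
  by_contra hne
  obtain ⟨kH, hkH⟩ := exists_restrict k H hH
  exact ha2 (congrArg Subtype.val (center_elementary (Nat.card ↥H) ↥H le_rfl (hP.to_subgroup H)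
    ⟨⟨x, hx⟩, ⟨y, hy⟩, fun e => hne (congrArg Subtype.val e)⟩ kH
    (fun u v hu huu hv hvv => by
      obtain ⟨j, hj⟩ := hk u v (fun h => hu (Subtype.ext h)) (congrArg Subtype.val huu)
        (fun h => hv (Subtype.ext h)) (congrArg Subtype.val hvv)
      exact ⟨j, Subtype.ext (by rw [hkH, hj])⟩)
    ⟨a, ha⟩ (Subgroup.mem_center_iff.2 fun u => Subtype.ext (hac u u.2))))

lemma exists_order_four {P : Type*} [Group P] (hP : IsPGroup 2 P) {b : P} (hb : b * b ≠ 1) :
    ∃ j : ℕ, b ^ j * b ^ j ≠ 1 ∧ b ^ j * b ^ j * (b ^ j * b ^ j) = 1 := by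
  classical
  have hex : ∃ i, b ^ 2 ^ i = 1 := hP b
  set i := Nat.find hex with hi
  have h2 : 2 ≤ i := by
    by_contra h
    apply hb
    have := Nat.find_spec hex
    rw [← hi] at this
    interval_cases i
    · rw [pow_zero, pow_one] at this; rw [this, mul_one]
    · rw [pow_one, pow_two] at this; exact this
  refine ⟨2 ^ (i - 2), ?_, ?_⟩
  · rw [← pow_add, ← two_mul, ← pow_succ', show i - 2 + 1 = i - 1 by omega]
    exact Nat.find_min hex (by omega)
  · rw [← pow_add, ← pow_add, ← two_mul, ← two_mul, ← pow_succ', ← pow_succ', show i - 2 + 1 + 1 = i by omega]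
    exact Nat.find_spec hex

/-! ### fields -/

section field

variable {F : Type*} [Field F] [Finite F]

lemma coeff_unique [Fintype (F ≃+* F)] {d d' : (F ≃+* F) → F}
    (h : ∀ v, ∑ σ, d σ * σ v = ∑ σ, d' σ * σ v) : d = d' := by
  funext σ
  have := Fintype.linearIndependent_iff.1 (Field.aut_linearIndependent (F := F)) (fun σ => d σ - d' σ) (by
    funext v
    simp [sub_mul, Finset.sum_sub_distrib, h v]) σ
  exact sub_eq_zero.1 this

variable [CharP F 2] {c : F}

lemma aut_ratio (hc : ∀ x : F, x ≠ 0 → ∃ j : ℕ, x = c ^ j) (hc0 : c ≠ 0) {σ τ ρ : F ≃+* F}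
    (hσ : σ ≠ 1) (h : ρ (c / σ c) = c / τ c) : ρ = 1 ∧ τ = σ := by
  classical
  have : Finite (F ≃+* F) := Finite.of_injective (fun σ => (σ : F → F)) DFunLike.coe_injective
  have := Fintype.ofFinite (F ≃+* F)
  have hx : ∀ x : F, ρ x * τ x = x * ρ (σ x) := by
    intro x
    rcases eq_or_ne x 0 with rfl | hx0
    · simp
    obtain ⟨j, rfl⟩ := hc x hx0
    rw [map_div₀, div_eq_div_iff ((map_ne_zero _).2 ((map_ne_zero _).2 hc0)) ((map_ne_zero _).2 hc0)] at h
    simp only [map_pow, ← mul_pow, h]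
  rcases eq_or_ne ρ 1 with rfl | hρ
  · refine ⟨rfl, RingEquiv.ext fun x => ?_⟩
    rcases eq_or_ne x 0 with rfl | hx0
    · simp
    · exact mul_left_cancel₀ hx0 (hx x)
  exfalso
  have hpol : ∀ x y : F, ρ x * τ y + ρ y * τ x = x * ρ (σ y) + y * ρ (σ x) := fun x y => by
    have := hx (x + y)
    simp only [map_add] at this
    linear_combination this - hx x - hx y
  rcases eq_or_ne τ ρ with e | hτ
  · rw [e] at hpol hx
    have h1 : ∀ x : F, ρ (σ x) = x := fun x => by
      have := hpol x 1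
      simp only [map_one, mul_one, one_mul] at this
      linear_combination -this + (ρ x - x) * CharTwo.two_eq_zero (R := F)
    apply hρ
    refine RingEquiv.ext fun x => ?_
    have := hx x
    rw [h1] at this
    have h3 : (ρ x + x) * (ρ x + x) = 0 := by
      linear_combination this + (ρ x * x + x * x) * CharTwo.two_eq_zero (R := F)
    exact CharTwo.add_eq_zero.1 (mul_self_eq_zero.1 h3)
  have := congrFun (coeff_unique (d := Pi.single ρ (1 : F) + Pi.single τ 1)
    (d' := Pi.single 1 (1 : F) + Pi.single (ρ * σ) 1) (fun v => by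
      have := hpol v 1
      simp only [map_one, mul_one, one_mul] at this
      simp only [Pi.add_apply, add_mul, Finset.sum_add_distrib, Pi.single_apply, ite_mul, zero_mul, one_mul,
        Finset.sum_ite_eq', Finset.mem_univ, if_true]
      exact this)) ρ
  have h' : ρ * σ ≠ ρ := fun e => hσ (mul_left_cancel (e.trans (mul_one ρ).symm))
  rw [Pi.add_apply, Pi.add_apply, Pi.single_eq_same, Pi.single_eq_of_ne hτ.symm, Pi.single_eq_of_ne hρ,
    Pi.single_eq_of_ne h'.symm, add_zero, add_zero] at this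
  exact one_ne_zero this

/-- an additive subgroup invariant under a ratio is trivial or everything -/
lemma invariant_eq_top (hc : ∀ x : F, x ≠ 0 → ∃ j : ℕ, x = c ^ j) (hc0 : c ≠ 0) {σ : F ≃+* F}
    (hσ : σ ≠ 1) (V : AddSubgroup F) (hV : ∀ v ∈ V, c / σ c * v ∈ V) (hne : ∃ v ∈ V, v ≠ 0) : V = ⊤ := by
  classical
  let R : Subring F :=
    { carrier := {r | ∀ v ∈ V, r * v ∈ V}
      one_mem' := fun v hv => by rwa [one_mul]
      mul_mem' := fun ha hb v hv => by rw [mul_assoc]; exact ha _ (hb v hv)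
      zero_mem' := fun v _ => by rw [zero_mul]; exact zero_mem _
      add_mem' := fun ha hb v hv => by rw [add_mul]; exact add_mem (ha v hv) (hb v hv)
      neg_mem' := fun ha v hv => by rw [neg_mul]; exact neg_mem (ha v hv) }
  have := Fintype.ofFinite ↥R
  have := Fintype.ofFinite F
  letI := Fintype.fieldOfDomain ↥R
  haveI : CharP ↥R 2 := CharP.subring F 2 R
  obtain ⟨d, -, hd⟩ := FiniteField.card ↥R 2
  have hfix : ∀ r : ↥R, (r : F) ^ 2 ^ (d : ℕ) = r := fun r => by
    have := congrArg (Subtype.val) (FiniteField.pow_card r)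
    rwa [hd, SubmonoidClass.coe_pow] at this
  haveI : Fact (Nat.Prime 2) := ⟨Nat.prime_two⟩
  haveI : PerfectRing F 2 := PerfectRing.ofSurjective F 2
    (Finite.surjective_of_injective (frobenius_inj F 2))
  set ρ : F ≃+* F := iterateFrobeniusEquiv F 2 d with hρ
  have hρ1 : ρ = 1 := (aut_ratio hc hc0 (τ := σ) (ρ := ρ) hσ (by
    rw [hρ, iterateFrobeniusEquiv_apply, iterateFrobenius_def]
    exact hfix ⟨_, hV⟩)).1
  have hall : ∀ x : F, x ^ 2 ^ (d : ℕ) = x := fun x => by
    have := congrArg (fun e : F ≃+* F => e x) hρ1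
    simp only [hρ, iterateFrobeniusEquiv_apply, iterateFrobenius_def] at this
    exact this
  have hcard : Fintype.card F ≤ 2 ^ (d : ℕ) := by
    have h2 : 1 < 2 ^ (d : ℕ) := Nat.one_lt_pow d.pos.ne' one_lt_two
    have hP0 := FiniteField.X_pow_card_sub_X_ne_zero (K' := F) h2
    have := Polynomial.card_le_degree_of_subset_roots (p := (Polynomial.X ^ 2 ^ (d : ℕ) - Polynomial.X : Polynomial F))
      (Z := Finset.univ) (fun x _ => by
        rw [Polynomial.mem_roots hP0]
        simp [hall])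
    rwa [FiniteField.X_pow_card_sub_X_natDegree_eq (K' := F) h2] at this
  have hsurj : Function.Surjective (Subtype.val : ↥R → F) := by
    refine ((Fintype.bijective_iff_injective_and_card _).2 ⟨Subtype.val_injective, ?_⟩).2
    exact le_antisymm (Fintype.card_le_of_injective _ Subtype.val_injective) (hd ▸ hcard)
  obtain ⟨v, hv, hv0⟩ := hne
  refine eq_top_iff.2 fun w _ => ?_
  obtain ⟨r, hr⟩ := hsurj (w / v)
  have := r.2 v hv
  rwa [hr, div_mul_cancel₀ w hv0] at this

end field

end CfsgLib.Chev.Suz2
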