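/-
In a Suzuki 2-group all squares are central: the main argument.
-/
import Cfsg.Agent.Lib.Chev.Suz2.Squares

set_option autoImplicit false

namespace CfsgLib.Chev.Suz2

universe u

lemma frob_of_relation {F : Type*} [Field F] [Finite F] [CharP F 2] (σ τ : F ≃+* F) (G : F →+ F) (D : F)
    (hD : D ≠ 0) (hG : G ≠ 0) (h : ∀ c, c * σ (G c) + D * τ (G c) = 0) (v : F) : τ v = σ v * σ v := by
  obtain ⟨c₀, hc₀⟩ : ∃ c, G c ≠ 0 := by
    by_contra hne
    push Not at hne
    exact hG (AddMonoidHom.ext hne)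
  have hinj : Function.Injective G := (injective_iff_map_eq_zero G).2 fun c hc => by
    have h1 := h (c₀ + c)
    rw [map_add, hc, add_zero] at h1
    have h2 : c * σ (G c₀) = 0 := by linear_combination h1 - h c₀
    exact (mul_eq_zero.1 h2).resolve_right ((map_ne_zero σ).2 hc₀)
  obtain ⟨c, hc⟩ := Finite.surjective_of_injective hinj v
  obtain ⟨c₁, hc₁⟩ := Finite.surjective_of_injective hinj 1
  have h1 := h c₁
  rw [hc₁, map_one, map_one, mul_one, mul_one, CharTwo.add_eq_zero] at h1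
  have h2 := h (c + c₁)
  rw [map_add, hc, hc₁, map_add, map_add, map_one, map_one, h1] at h2
  have h3 := h c
  rw [hc] at h3
  have h4 : c = D * σ v := CharTwo.add_eq_zero.1
    (by linear_combination h2 - h3 - D * CharTwo.two_eq_zero (R := F))
  rw [h4] at h3
  have h5 : D * (σ v * σ v + τ v) = 0 := by linear_combination h3
  exact (CharTwo.add_eq_zero.1 ((mul_eq_zero.1 h5).resolve_left hD)).symm

theorem squares_central {P : Type u} [Group P] [Finite P] (hP : IsPGroup 2 P)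
    (hna : ∃ x y : P, x * y ≠ y * x) (k : MulAut P) (hk : Trans k)
    (h2 : ∃ a b : P, a ≠ b ∧ a ≠ 1 ∧ a * a = 1 ∧ b ≠ 1 ∧ b * b = 1) :
    ∀ x : P, x * x ∈ Subgroup.center P := by
  classical
  haveI := Fact.mk Nat.prime_two
  set Z := Subgroup.center P with hZdef
  have hZmem : ∀ {z : P}, z ∈ Z → ∀ g : P, g * z = z * g := fun hz => Subgroup.mem_center_iff.1 hz
  have hZc : ∀ z ∈ Z, z * z = 1 := center_elementary (Nat.card P) P le_rfl hP hna k hk
  have hinv : ∀ {x : P}, x * x = 1 → x ∈ Z := fun h => invol_central hP k hk h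
  have hkZ : ∀ {x : P}, x ∈ Z → k x ∈ Z := fun {x} hx => Subgroup.mem_center_iff.2 fun y => by
    obtain ⟨y, rfl⟩ := k.surjective y
    rw [← map_mul, ← map_mul, hZmem hx y]
  by_contra hne
  push Not at hne
  obtain ⟨x₀, hx₀⟩ := hne
  -- the second centre and its centraliser
  let W : Subgroup P :=
    { carrier := {y | y * y ∈ Z ∧ ∀ x, cm y x ∈ Z}
      one_mem' := ⟨by simp, fun x => by simp [cm]⟩
      mul_mem' := by
        rintro a b ⟨ha, ha'⟩ ⟨hb, hb'⟩
        refine ⟨?_, fun x => ?_⟩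
        · rw [sq_mul (hb' a)]
          exact mul_mem (mul_mem ha hb) (hb' a)
        · rw [cm_mul_left (ha' x)]
          exact mul_mem (ha' x) (hb' x)
      inv_mem' := by
        rintro a ⟨ha, ha'⟩
        refine ⟨by rw [← mul_inv_rev]; exact inv_mem ha, fun x => ?_⟩
        have h : cm a x * cm a⁻¹ x = 1 := by
          rw [← cm_mul_left (ha' x), mul_inv_cancel]; simp [cm]
        rw [eq_inv_of_mul_eq_one_right h]
        exact inv_mem (ha' x) }
  have hkW : ∀ y ∈ W, k y ∈ W := fun y hy => ⟨by rw [← map_mul]; exact hkZ hy.1, fun x => by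
    obtain ⟨x, rfl⟩ := k.surjective x
    rw [← map_cm]; exact hkZ (hy.2 x)⟩
  have hZW : Z ≤ W := fun z hz => ⟨by rw [hZc z hz]; exact one_mem _, fun x => by
    rw [(cm_eq_one_iff z x).2 (hZmem hz x).symm]; exact one_mem _⟩
  set C := Subgroup.centralizer (W : Set P) with hCdef
  have hmemC : ∀ {a : P}, a ∈ C ↔ ∀ b ∈ W, b * a = a * b := Subgroup.mem_centralizer_iff
  have hkC : ∀ a ∈ C, k a ∈ C := fun a ha => hmemC.2 fun b hb => by
    obtain ⟨b', hb', rfl⟩ : ∃ b' ∈ W, k b' = b := by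
      obtain ⟨kW, hkW'⟩ := exists_restrict k W hkW
      obtain ⟨b', hb'⟩ := kW.surjective ⟨b, hb⟩
      refine ⟨b', b'.2, ?_⟩
      have := hkW' 1 b'
      rw [pow_one, pow_one, hb'] at this
      exact this.symm
    rw [← map_mul, ← map_mul, hmemC.1 ha b' hb']
  have hxxC : ∀ x : P, x * x ∈ C := fun x => hmemC.2 fun b hb => by
    rw [← cm_eq_one_iff, cm_mul_right (hb.2 x), hZc _ (hb.2 x)]
  have hWn : ∀ (g : P), ∀ a ∈ W, g⁻¹ * a * g ∈ W := fun g a ha => by
    rw [conj_eq_mul_cm]; exact mul_mem ha (hZW (ha.2 g))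
  have hCn : ∀ (g : P), ∀ a ∈ C, g⁻¹ * a * g ∈ C := fun g a ha => hmemC.2 fun b hb => by
    have h := hmemC.1 ha _ (hWn g⁻¹ b hb)
    rw [inv_inv] at h
    calc b * (g⁻¹ * a * g) = g⁻¹ * (g * b * g⁻¹ * a) * g := by group
      _ = g⁻¹ * (a * (g * b * g⁻¹)) * g := by rw [h]
      _ = _ := by group
  have hcmC : ∀ a ∈ C, ∀ x, cm a x ∈ C := fun a ha x => by
    rw [show cm a x = a⁻¹ * (x⁻¹ * a * x) by simp [cm, mul_assoc]]
    exact mul_mem (inv_mem ha) (hCn x a ha)
  have hcmsquares : ∀ y x : P, cm y x ∈ C := fun y x => by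
    rw [show cm y x = y⁻¹ * x⁻¹ * (y⁻¹ * x⁻¹) * (x * (y * y) * x⁻¹) * (x * x) by simp [cm, mul_assoc]]
    refine mul_mem (mul_mem (hxxC _) ?_) (hxxC _)
    have := hCn x⁻¹ _ (hxxC y)
    rwa [inv_inv] at this
  -- `W ⊓ C` is larger than the centre
  set A := C ⊓ W with hAdef
  obtain ⟨a₁, ha₁, ha₁'⟩ : ∃ a ∈ A, a ∉ Z := by
    haveI : Group.IsNilpotent P := hP.isNilpotent
    have hnil : ∃ i, ∃ a ∈ C, a ∈ Subgroup.upperCentralSeries P i ∧ a ∉ Z := by
      obtain ⟨i, hi⟩ := (Group.isNilpotent_iff P).1 inferInstance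
      exact ⟨i, x₀ * x₀, hxxC x₀, by rw [hi]; trivial, hx₀⟩
    obtain ⟨a, haC, hai, haZ⟩ := Nat.find_spec hnil
    refine ⟨a, ⟨haC, ?_⟩, haZ⟩
    obtain ⟨i, hi⟩ : ∃ i, Nat.find hnil = i + 1 := by
      refine ⟨Nat.find hnil - 1, (Nat.succ_pred_eq_of_ne_zero fun e => haZ ?_).symm⟩
      rw [e] at hai
      rw [Subgroup.upperCentralSeries_zero, Subgroup.mem_bot] at hai
      rw [hai]; exact one_mem _
    rw [hi] at hai
    have hcmZ : ∀ x, cm a x ∈ Z := fun x => by
      by_contra h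
      refine Nat.find_min hnil (m := i) (by omega) ⟨cm a x, hcmC a haC x, ?_, h⟩
      have h4 := (Subgroup.mem_upperCentralSeries_succ_iff.1 hai) x⁻¹
      have h5 : cm a x = (a⁻¹ * (a * x⁻¹ * a⁻¹ * x⁻¹⁻¹)⁻¹ * a) := by simp [cm, mul_assoc]
      rw [h5]
      have := (inferInstance : (Subgroup.upperCentralSeries P i).Normal).conj_mem _ (inv_mem h4) a⁻¹
      rwa [inv_inv] at this
    refine ⟨?_, hcmZ⟩
    exact Subgroup.mem_center_iff.2 fun x => ((cm_eq_one_iff (a * a) x).1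
      (by rw [cm_mul_left (hcmZ x), hZc _ (hcmZ x)])).symm
  have hkA : ∀ a ∈ A, k a ∈ A := fun a ha => ⟨hkC a ha.1, hkW a ha.2⟩
  have hAcomm : ∀ a ∈ A, ∀ b ∈ A, a * b = b * a := fun a ha b hb => (hmemC.1 hb.1 a ha.2)
  have hZA : Z ≤ A := fun z hz => ⟨hmemC.2 fun b _ => hZmem hz b, hZW hz⟩
  have ha₁sq : a₁ * a₁ ≠ 1 := fun h => ha₁' (hinv h)
  have hCab : ∀ x ∈ C, ∀ y ∈ C, x * y = y * x :=
    abelian_of_central hP k hk C hkC ha₁.1 (fun h hh => (hmemC.1 hh a₁ ha₁.2).symm) ha₁sq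
  -- coordinates on the centre
  letI : CommGroup ↥Z :=
    { (inferInstance : Group ↥Z) with mul_comm := fun s t => Subtype.ext (hZmem t.2 s) }
  have : Nontrivial ↥Z := ⟨⟨a₁ * a₁, ha₁.2.1⟩, 1, fun h => ha₁sq (congrArg Subtype.val h)⟩
  obtain ⟨kz, hkz⟩ := exists_restrict k Z (fun x hx => hkZ hx)
  have hTz : Trans kz := by
    intro s t hs hs' ht ht'
    obtain ⟨j, hj⟩ := hk s t (fun h => hs (Subtype.ext h)) (congrArg Subtype.val hs')
      (fun h => ht (Subtype.ext h)) (congrArg Subtype.val ht')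
    exact ⟨j, Subtype.ext (by rw [hkz, hj])⟩
  obtain ⟨n, i, c, hn, hi, hiadd, hik', hc⟩ := exists_coord (fun z : ↥Z => Subtype.ext (hZc _ z.2)) kz hTz
  have hik : ∀ (z : P) (h : z ∈ Z), i ⟨k z, hkZ h⟩ = c * i ⟨z, h⟩ := fun z h => by
    rw [← hik']
    refine congrArg i (Subtype.ext ?_)
    have := hkz 1 ⟨z, h⟩
    rw [pow_one, pow_one] at this
    exact this.symm
  have hi1 : i 1 = 0 := by simpa using hiadd 1 1
  have hi0 : ∀ (z : P) (h : z ∈ Z), i ⟨z, h⟩ = 0 → z = 1 := fun z h e =>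
    congrArg Subtype.val (hi.1 (e.trans hi1.symm))
  have hc0 : c ≠ 0 := by
    rintro rfl
    have h := hik _ ha₁.2.1
    rw [zero_mul] at h
    exact ha₁sq (k.injective ((hi0 _ _ h).trans (map_one k).symm))
  let f : P → (GaloisField 2 n) := fun y => if h : y * y ∈ Z then i ⟨y * y, h⟩ else 0
  have hfdef : ∀ y (h : y * y ∈ Z), f y = i ⟨y * y, h⟩ := fun y h => dif_pos h
  have hfZ : ∀ z ∈ Z, f z = 0 := fun z hz => by
    rw [hfdef z (mul_mem hz hz), ← hi1]
    exact congrArg i (Subtype.ext (hZc z hz))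
  have hfadd : ∀ a ∈ A, ∀ b ∈ A, f (a * b) = f a + f b := fun a ha b hb => by
    rw [hfdef _ (mul_mem ha.2 hb.2).1, hfdef _ ha.2.1, hfdef _ hb.2.1, ← hiadd]
    refine congrArg i (Subtype.ext ?_)
    show a * b * (a * b) = a * a * (b * b)
    rw [mul_assoc a b, ← mul_assoc b a b, ← hAcomm a ha b hb]
    simp [mul_assoc]
  have hfk : ∀ a ∈ A, f (k a) = c * f a := fun a ha => by
    rw [hfdef _ (hkA a ha).2.1, hfdef _ ha.2.1, ← hik _ ha.2.1]
    exact congrArg i (Subtype.ext (map_mul k a a).symm)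
  have hfker : ∀ a ∈ A, f a = 0 → a ∈ Z := fun a ha h => by
    rw [hfdef _ ha.2.1] at h
    exact hinv (hi0 _ _ h)
  have hfsurj : ∀ v : (GaloisField 2 n), ∃ a ∈ A, f a = v := by
    intro v
    rcases eq_or_ne v 0 with rfl | hv
    · exact ⟨1, one_mem _, hfZ 1 (one_mem _)⟩
    have hga : f a₁ ≠ 0 := fun h => ha₁' (hfker a₁ ha₁ h)
    have hpow : ∀ j : ℕ, (k ^ j) a₁ ∈ A ∧ f ((k ^ j) a₁) = c ^ j * f a₁ := by
      intro j
      induction j with
      | zero => exact ⟨by simpa using ha₁, by simp⟩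
      | succ j ihj =>
        rw [pow_apply_succ]
        exact ⟨hkA _ ihj.1, by rw [hfk _ ihj.1, ihj.2, pow_succ', mul_assoc]⟩
    obtain ⟨j, hj⟩ := hc (v / f a₁) (div_ne_zero hv hga)
    exact ⟨(k ^ j) a₁, (hpow j).1, by rw [(hpow j).2, ← hj, div_mul_cancel₀ v hga]⟩
  choose s hsA hs using hfsurj
  -- the commutator action on `A`
  let T : P → (GaloisField 2 n) → (GaloisField 2 n) := fun x v => i ⟨cm (s v) x, (hsA v).2.2 x⟩
  have hT : ∀ a (ha : a ∈ A) x, T x (f a) = i ⟨cm a x, ha.2.2 x⟩ := by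
    intro a ha x
    have hm : (s (f a))⁻¹ * a ∈ Z := hfker _ (mul_mem (inv_mem (hsA _)) ha) (by
      have h := hfadd _ (hsA (f a)) _ (mul_mem (inv_mem (hsA (f a))) ha)
      rw [mul_inv_cancel_left, hs] at h
      exact left_eq_add.1 h)
    refine congrArg i (Subtype.ext ?_)
    show cm (s (f a)) x = cm a x
    conv_rhs => rw [← mul_inv_cancel_left (s (f a)) a, cm_mul_left ((hsA _).2.2 x),
      (cm_eq_one_iff _ x).2 (hZmem hm x).symm, mul_one]
  have hTv : ∀ x v w, T x (v + w) = T x v + T x w := fun x v w => by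
    conv_lhs => rw [← hs v, ← hs w, ← hfadd _ (hsA v) _ (hsA w), hT _ (mul_mem (hsA v) (hsA w))]
    rw [← hiadd]
    exact congrArg i (Subtype.ext (cm_mul_left ((hsA v).2.2 x)))
  have hTx : ∀ x y v, T (x * y) v = T x v + T y v := fun x y v => by
    rw [add_comm, ← hiadd]
    exact congrArg i (Subtype.ext (cm_mul_right ((hsA v).2.2 x)))
  have hTk : ∀ x v, T (k x) (c * v) = c * T x v := fun x v => by
    conv_lhs => rw [← hs v, ← hfk _ (hsA v), hT _ (hkA _ (hsA v))]
    rw [← hik _ ((hsA v).2.2 x)]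
    exact congrArg i (Subtype.ext (map_cm k _ _).symm)
  have hT0 : ∀ x, T x 0 = 0 := fun x => by simpa using hTv x 0 0
  have hT1 : ∀ v, T 1 v = 0 := fun v => by simpa using hTx 1 1 v
  have hW1 : ∀ d ∈ C, d * d * (d * d) = 1 → d ∈ A := fun d hd h => by
    refine ⟨hd, hinv h, fun x => hinv ?_⟩
    have e : cm (d * d) x = cm d x * cm d x := by
      calc cm (d * d) x = d⁻¹ * cm d x * (x⁻¹ * d * x) := by simp [cm, mul_assoc]
        _ = d⁻¹ * (d * cm d x) * cm d x := by
            rw [conj_eq_mul_cm d x]; simp only [← mul_assoc]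
            rw [mul_assoc d⁻¹ (cm d x) d, ← hCab d hd _ (hcmC d hd x), ← mul_assoc]
        _ = cm d x * cm d x := by group
    rw [← e, cm_eq_one_iff]
    exact (hZmem (hinv h) x).symm
  obtain ⟨k', m, hm, hkm, ⟨pw, hpw⟩, hfix⟩ := exists_odd_power hP k hk h2
  have hk'A : ∀ a ∈ A, k' a ∈ A := fun a ha => by
    subst hpw
    clear hkm hfix
    induction pw with
    | zero => simpa using ha
    | succ pw ih => rw [pow_apply_succ]; exact hkA _ ih
  by_cases h8 : ∃ d ∈ C, d * d * (d * d) ≠ 1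
  · -- exponent at least eight: every `T x` is idempotent
    obtain ⟨d₀, hd₀C, hd₀⟩ := h8
    obtain ⟨j, hj1, hj2⟩ := exists_order_four hP hd₀
    rw [← pow_two d₀, ← pow_mul, mul_comm, pow_mul, pow_two] at hj1 hj2
    set d₁ := d₀ ^ j with hd₁def
    have hd₁C : d₁ ∈ C := pow_mem hd₀C j
    have hsq2 : ∀ d ∈ C, d * d * (d * d) * (d * d * (d * d)) = 1 → d * d ∈ A := fun d hd h =>
      hW1 _ (mul_mem hd hd) h
    have hroot : ∀ v : (GaloisField 2 n), ∃ d ∈ C, d * d ∈ A ∧ f (d * d) = v := by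
      intro v
      rcases eq_or_ne v 0 with rfl | hv
      · exact ⟨1, one_mem _, by rw [one_mul]; exact one_mem _, by rw [one_mul]; exact hfZ 1 (one_mem _)⟩
      have hd₁A : d₁ * d₁ ∈ A := hsq2 d₁ hd₁C hj2
      have hga : f (d₁ * d₁) ≠ 0 := fun h => hj1 (hZc _ (hfker _ hd₁A h))
      have hpow : ∀ l : ℕ, (k ^ l) d₁ ∈ C ∧ (k ^ l) d₁ * (k ^ l) d₁ ∈ A ∧
          f ((k ^ l) d₁ * (k ^ l) d₁) = c ^ l * f (d₁ * d₁) := by
        intro l
        induction l with
        | zero => exact ⟨by simpa using hd₁C, by simpa using hd₁A, by simp⟩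
        | succ l ihl =>
          rw [pow_apply_succ, ← map_mul]
          exact ⟨hkC _ ihl.1, hkA _ ihl.2.1, by rw [hfk _ ihl.2.1, ihl.2.2, pow_succ', mul_assoc]⟩
      obtain ⟨l, hl⟩ := hc (v / f (d₁ * d₁)) (div_ne_zero hv hga)
      exact ⟨(k ^ l) d₁, (hpow l).1, (hpow l).2.1, by rw [(hpow l).2.2, ← hl, div_mul_cancel₀ v hga]⟩
    have hidem : ∀ x v, T x (T x v) = T x v := by
      intro x v
      obtain ⟨d, hdC, hdA, rfl⟩ := hroot v
      set e := cm d x with he
      have heC : e ∈ C := hcmC d hdC x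
      have he2 : cm (d * d) x = e * e := by
        calc cm (d * d) x = d⁻¹ * cm d x * (x⁻¹ * d * x) := by simp [cm, mul_assoc]
          _ = d⁻¹ * (d * cm d x) * cm d x := by
              rw [conj_eq_mul_cm d x]; simp only [← mul_assoc]
              rw [mul_assoc d⁻¹ (cm d x) d, ← hCab d hdC _ (hcmC d hdC x), ← mul_assoc]
          _ = e * e := by rw [he]; group
      have heZ : e * e ∈ Z := he2 ▸ hdA.2.2 x
      have heA : e ∈ A := hW1 e heC (hZc _ heZ)
      have hfe : f e = T x (f (d * d)) := by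
        rw [hT _ hdA, hfdef _ heZ]
        exact congrArg i (Subtype.ext he2.symm)
      have h1 : e * e * cm e x = 1 := by
        have h := (cm_eq_one_iff d (x * x)).2 (hCab d hdC _ (hxxC x))
        have h' : cm d (x * x) = cm d x * (x⁻¹ * cm d x * x) := by simp [cm, mul_assoc]
        rw [h', conj_eq_mul_cm, ← he] at h
        rwa [mul_assoc]
      rw [← hfe, hT e heA, hfdef _ heZ]
      refine (CharTwo.add_eq_zero.1 ?_).symm
      rw [← hiadd, ← hi1]
      exact congrArg i (Subtype.ext h1)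
    have hcommT : ∀ x y v, T x (T y v) = T y (T x v) := fun x y v => by
      have h := hidem (x * y) v
      simp only [hTx, hTv, hidem] at h
      refine CharTwo.add_eq_zero.1 ?_
      linear_combination h
    -- a common eigenvector
    have := Fintype.ofFinite P
    have hev : ∀ S : Finset P, ∃ v : (GaloisField 2 n), v ≠ 0 ∧ ∀ x ∈ S, T x v = 0 ∨ T x v = v := by
      intro S
      induction S using Finset.induction_on with
      | empty => exact ⟨1, one_ne_zero, by simp⟩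
      | insert x S _ ih =>
        obtain ⟨v, hv, hS⟩ := ih
        by_cases h : T x v = 0
        · exact ⟨v, hv, fun y hy => (Finset.mem_insert.1 hy).elim (fun e => Or.inl (e ▸ h)) (hS y)⟩
        · refine ⟨T x v, h, fun y hy => (Finset.mem_insert.1 hy).elim (fun e => Or.inr ?_) fun hy => ?_⟩
          · rw [e, hidem]
          · rcases hS y hy with e | e
            · exact Or.inl (by rw [hcommT, e, hT0])
            · exact Or.inr (by rw [hcommT, e])
    obtain ⟨v₀, hv₀, hv₀'⟩ := hev Finset.univ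
    have hall : ∀ (j : ℕ) (x : P), T x (c ^ j * v₀) = 0 ∨ T x (c ^ j * v₀) = c ^ j * v₀ := by
      intro j
      induction j with
      | zero => intro x; simpa using hv₀' x (Finset.mem_univ x)
      | succ j ih =>
        intro x
        obtain ⟨x, rfl⟩ := k.surjective x
        rw [pow_succ', mul_assoc, hTk]
        rcases ih x with e | e <;> rw [e]
        · exact Or.inl (mul_zero c)
        · exact Or.inr rfl
    have hsc : ∀ x v, T x v = 0 ∨ T x v = v := by
      intro x v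
      rcases eq_or_ne v 0 with rfl | hv
      · exact Or.inl (hT0 x)
      · obtain ⟨j, hj⟩ := hc (v / v₀) (div_ne_zero hv hv₀)
        have := hall j x
        rwa [← hj, div_mul_cancel₀ v hv₀] at this
    have hdich : ∀ x, (∀ v, T x v = 0) ∨ ∀ v, T x v = v := by
      intro x
      by_contra hne
      push Not at hne
      obtain ⟨⟨v, hv⟩, w, hw⟩ := hne
      have hvv := (hsc x v).resolve_left hv
      have hw0 := (hsc x w).resolve_right hw
      rcases hsc x (v + w) with e | e <;> rw [hTv, hvv, hw0, add_zero] at e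
      · exact hv (by rw [hvv]; exact e)
      · exact hw (by rw [hw0]; exact (left_eq_add.1 e).symm)
    obtain ⟨x, hx⟩ : ∃ x, ∀ v, T x v = v := by
      by_contra hne
      refine ha₁' (Subgroup.mem_center_iff.2 fun x => ((cm_eq_one_iff a₁ x).1 ?_).symm)
      have h := ((hdich x).resolve_right fun h => hne ⟨x, h⟩) (f a₁)
      rw [hT a₁ ha₁] at h
      exact hi0 _ _ h
    let P₀ : Subgroup P :=
      { carrier := {y | ∀ v, T y v = 0}
        one_mem' := hT1
        mul_mem' := fun {a b} ha hb v => by rw [hTx, ha v, hb v, add_zero]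
        inv_mem' := fun {a} ha v => by
          have := hTx a⁻¹ a v
          rw [inv_mul_cancel, hT1, ha v, add_zero] at this
          exact this.symm }
    have hkT : ∀ y, ((∀ v, T y v = 0) → ∀ v, T (k y) v = 0) ∧ ((∀ v, T y v = v) → ∀ v, T (k y) v = v) :=
      fun y => ⟨fun h v => by rw [← mul_div_cancel₀ v hc0, hTk, h, mul_zero],
        fun h v => by rw [← mul_div_cancel₀ v hc0, hTk, h]⟩
    have hk'T : ∀ y, ((∀ v, T y v = 0) → ∀ v, T (k' y) v = 0) ∧
        ((∀ v, T y v = v) → ∀ v, T (k' y) v = v) := by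
      subst hpw
      clear hkm hfix hk'A
      induction pw with
      | zero => intro y; exact ⟨fun h => by simpa using h, fun h => by simpa using h⟩
      | succ pw ih =>
        intro y
        rw [pow_apply_succ]
        exact ⟨fun h => (hkT _).1 ((ih y).1 h), fun h => (hkT _).2 ((ih y).2 h)⟩
    have hxinv : ∀ v, T x⁻¹ v = v := fun v => by
      have := hTx x⁻¹ x v
      rw [inv_mul_cancel, hT1, hx] at this
      exact CharTwo.add_eq_zero.1 this.symm
    obtain ⟨h, hh, hfx⟩ := exists_fixed_coset m hm P hP k' hkm P₀ (fun y hy => (hk'T y).1 hy) x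
      (fun v => by rw [hTx, hxinv, (hk'T x).2 hx]; exact CharTwo.add_self_eq_zero v)
    set y := x * h with hy
    have hTy : ∀ v, T y v = v := fun v => by rw [hy, hTx, hx, hh v, add_zero]
    have hb : y * y * (y * y) = 1 := by
      by_contra hne
      obtain ⟨l, hl1, hl2⟩ := exists_order_four hP hne
      have hbA : (y * y) ^ l ∈ A := hW1 _ (pow_mem (hxxC y) l) hl2
      have := hTy (f ((y * y) ^ l))
      rw [hT _ hbA] at this
      have h0 : (⟨cm ((y * y) ^ l) y, hbA.2.2 y⟩ : ↥Z) = 1 :=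
        Subtype.ext ((cm_eq_one_iff _ _).2 (by
          rw [← pow_two, ← pow_mul, ← pow_succ', ← pow_succ]))
      rw [h0, hi1] at this
      exact hl1 (hZc _ (hfker _ hbA this.symm))
    have hyy : y * y = 1 := hfix _ hb (by rw [map_mul, hfx])
    have hyZ : y ∈ Z := hinv hyy
    have hT' : T y (1 : (GaloisField 2 n)) = 0 := by
      rw [← hi1]
      exact congrArg i (Subtype.ext ((cm_eq_one_iff _ _).2 (hZmem hyZ _)))
    rw [hTy] at hT'
    exact one_ne_zero hT'
  -- exponent four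
  push Not at h8
  have hCA : ∀ d ∈ C, d ∈ A := fun d hd => hW1 d hd (h8 d hd)
  have hsqA : ∀ x : P, x * x ∈ A := fun x => hCA _ (hxxC x)
  have hcmA : ∀ y x : P, cm y x ∈ A := fun y x => hCA _ (hcmsquares y x)
  have hTker : ∀ x, (∀ v, T x v = 0) → x ∈ A := by
    let P₀ : Subgroup P := Subgroup.centralizer (A : Set P)
    have hmem : ∀ x, x ∈ P₀ ↔ ∀ a ∈ A, a * x = x * a := fun x => Subgroup.mem_centralizer_iff
    have hkP₀ : ∀ x ∈ P₀, k x ∈ P₀ := fun x hx => (hmem _).2 fun a ha => by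
      obtain ⟨kA, hkA'⟩ := exists_restrict k A hkA
      obtain ⟨a', ha'⟩ := kA.surjective ⟨a, ha⟩
      have e : k (a' : P) = a := by
        have := hkA' 1 a'
        rw [pow_one, pow_one, ha'] at this
        exact this.symm
      rw [← e, ← map_mul, ← map_mul, (hmem x).1 hx a' a'.2]
    have hab := abelian_of_central hP k hk P₀ hkP₀ (a := a₁)
      ((hmem _).2 fun a ha => hAcomm a ha a₁ ha₁) (fun h hh => ((hmem h).1 hh a₁ ha₁).symm) ha₁sq
    intro x hx
    refine hCA x (hmemC.2 fun w hw => hab w ((hmem w).2 fun a ha => (hmemC.1 ha.1 w hw).symm) x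
      ((hmem x).2 fun a ha => ?_))
    have h := hx (f a)
    rw [hT a ha] at h
    exact (cm_eq_one_iff a x).1 (hi0 _ _ h)
  have hTA : ∀ x ∈ A, ∀ v, T x v = 0 := fun x hx v => by
    rw [← hi1]
    exact congrArg i (Subtype.ext ((cm_eq_one_iff _ _).2 (hAcomm _ (hsA v) _ hx)))
  let β : P → (GaloisField 2 n) := fun x => f (x * x)
  let γ : P → P → (GaloisField 2 n) := fun x y => f (cm y x)
  have hTβ : ∀ x, T x (β x) = 0 := fun x => by
    show T x (f (x * x)) = 0
    rw [hT _ (hsqA x), ← hi1]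
    exact congrArg i (Subtype.ext ((cm_eq_one_iff _ _).2 (mul_assoc x x x)))
  have hcmz : ∀ a ∈ A, ∀ x, f (a * cm a x) = f a := fun a ha x => by
    rw [hfadd a ha _ (hZA (ha.2.2 x)), hfZ _ (ha.2.2 x), add_zero]
  have hβ : ∀ x y, β (x * y) = β x + β y + γ x y := fun x y => by
    show f (x * y * (x * y)) = f (x * x) + f (y * y) + f (cm y x)
    rw [show x * y * (x * y) = x * x * (y * y) * (cm y x * cm (cm y x) y) by simp [cm, mul_assoc],
      hfadd _ (mul_mem (hsqA x) (hsqA y)) _ (mul_mem (hcmA y x) (hZA ((hcmA y x).2.2 y))),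
      hfadd _ (hsqA x) _ (hsqA y), hcmz _ (hcmA y x)]
  have hγr : ∀ x y y', γ x (y * y') = γ x y + γ x y' := fun x y y' => by
    show f (cm (y * y') x) = f (cm y x) + f (cm y' x)
    rw [show cm (y * y') x = cm y x * cm (cm y x) y' * cm y' x by simp [cm, mul_assoc],
      hfadd _ (mul_mem (hcmA y x) (hZA ((hcmA y x).2.2 y'))) _ (hcmA y' x), hcmz _ (hcmA y x)]
  have hγl : ∀ x x' y, γ (x * x') y = γ x y + γ x' y := fun x x' y => by
    show f (cm y (x * x')) = f (cm y x) + f (cm y x')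
    rw [show cm y (x * x') = cm y x' * (cm y x * cm (cm y x) x') by simp [cm, mul_assoc],
      hfadd _ (hcmA y x') _ (mul_mem (hcmA y x) (hZA ((hcmA y x).2.2 x'))), hcmz _ (hcmA y x), add_comm]
  have hβA : ∀ a ∈ A, β a = 0 := fun a ha => hfZ _ ha.2.1
  have hγA : ∀ a ∈ A, ∀ y, γ a y = 0 ∧ γ y a = 0 := fun a ha y => by
    refine ⟨?_, hfZ _ (ha.2.2 y)⟩
    show f (cm y a) = 0
    rw [show cm y a = (cm a y)⁻¹ by simp [cm, mul_assoc]]
    exact hfZ _ (inv_mem (ha.2.2 y))
  -- components of `T`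
  have := Fintype.ofFinite (GaloisField 2 n)
  have hex : ∀ x, ∃ co : ((GaloisField 2 n) ≃+* (GaloisField 2 n)) → (GaloisField 2 n), ∀ v, T x v = ∑ σ, co σ * σ v := fun x => by
    obtain ⟨co, hco⟩ := Field.exists_sum_aut (AddMonoidHom.mk' (T x) (hTv x))
    exact ⟨co, hco⟩
  choose d hd using hex
  have hdadd : ∀ x y σ, d (x * y) σ = d x σ + d y σ := fun x y σ => by
    refine congrFun (coeff_unique (d := d (x * y)) (d' := fun σ => d x σ + d y σ) fun v => ?_) σ
    rw [← hd, hTx, hd, hd, ← Finset.sum_add_distrib]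
    simp [add_mul]
  have hdk : ∀ x σ, d (k x) σ = c / σ c * d x σ := fun x σ => by
    have h := congrFun (coeff_unique (d := fun σ => d (k x) σ * σ c) (d' := fun σ => c * d x σ) fun v => ?_) σ
    · replace h : d (k x) σ * σ c = c * d x σ := h
      rw [div_mul_eq_mul_div, ← h, mul_div_cancel_right₀ _ ((map_ne_zero σ).2 hc0)]
    · calc ∑ σ, d (k x) σ * σ c * σ v = T (k x) (c * v) := by
            rw [hd]; exact Finset.sum_congr rfl fun σ _ => by rw [map_mul, mul_assoc]
        _ = ∑ σ, c * d x σ * σ v := by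
            rw [hTk, hd, Finset.mul_sum]; exact Finset.sum_congr rfl fun σ _ => by rw [mul_assoc]
  have hdA : ∀ x, x ∈ A ↔ ∀ σ, d x σ = 0 := fun x => by
    refine ⟨fun hx σ => congrFun (coeff_unique (d := d x) (d' := fun _ => 0) fun v => ?_) σ,
      fun h => hTker x fun v => by rw [hd]; simp [h]⟩
    rw [← hd, hTA x hx]
    simp
  have hd1 : ∀ σ, d 1 σ = 0 := (hdA 1).1 (one_mem _)
  have hdinv : ∀ x σ, d x⁻¹ σ = - d x σ := fun x σ =>
    eq_neg_of_add_eq_zero_left (by rw [← hdadd, inv_mul_cancel, hd1])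
  let K : Set ((GaloisField 2 n) ≃+* (GaloisField 2 n)) → Subgroup P := fun S =>
    { carrier := {x | ∀ σ ∈ S, d x σ = 0}
      one_mem' := fun σ _ => hd1 σ
      mul_mem' := fun {a b} ha hb σ hσ => by rw [hdadd, ha σ hσ, hb σ hσ, add_zero]
      inv_mem' := fun {a} ha σ hσ => by rw [hdinv, ha σ hσ, neg_zero] }
  have hkK : ∀ S, ∀ x ∈ K S, k x ∈ K S := fun S x hx σ hσ => by rw [hdk, hx σ hσ, mul_zero]
  let Inv : Subgroup P → Prop := fun Q => A < Q ∧ ∀ x ∈ Q, k x ∈ Q
  let Min : Subgroup P → Prop := fun Q => Inv Q ∧ ∀ R, Inv R → R ≤ Q → R = Q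
  have hsingle : ∀ Q, Min Q → ∃ σ : (GaloisField 2 n) ≃+* (GaloisField 2 n), σ ≠ 1 ∧ (∀ x ∈ Q, ∀ τ, τ ≠ σ → d x τ = 0) ∧
      ∀ w : (GaloisField 2 n), ∃ x ∈ Q, d x σ = w := by
    rintro Q ⟨⟨hAQ, hkQ⟩, hmin⟩
    obtain ⟨x₁, hx₁, hx₁'⟩ := SetLike.exists_of_lt hAQ
    obtain ⟨σ, hσ⟩ : ∃ σ, d x₁ σ ≠ 0 := by
      by_contra h
      push Not at h
      exact hx₁' ((hdA x₁).2 h)
    have hinjσ : ∀ x ∈ Q, d x σ = 0 → x ∈ A := by
      intro x hx h0
      by_contra hxA
      have hle : A ≤ Q ⊓ K {σ} := le_inf hAQ.le fun a ha τ _ => (hdA a).1 ha τ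
      have hmem : x ∈ Q ⊓ K {σ} := ⟨hx, fun τ hτ => by rw [Set.mem_singleton_iff.1 hτ]; exact h0⟩
      have heq := hmin (Q ⊓ K {σ}) ⟨lt_of_le_of_ne hle (fun e => hxA (e ▸ hmem)),
        fun y hy => ⟨hkQ y hy.1, hkK _ y hy.2⟩⟩ inf_le_left
      rw [← heq] at hx₁
      exact hσ (hx₁.2 σ rfl)
    have hσ1 : σ ≠ 1 := by
      rintro rfl
      have hfixd : ∀ x ∈ Q, ∀ τ : (GaloisField 2 n) ≃+* (GaloisField 2 n), τ ≠ 1 → d x τ = 0 := by
        intro x hx τ hτ
        have hA' := hinjσ (x⁻¹ * k x) (mul_mem (inv_mem hx) (hkQ x hx)) (by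
          rw [hdadd, hdinv, hdk]; simp [div_self hc0])
        have h := (hdA _).1 hA' τ
        rw [hdadd, hdinv, hdk] at h
        by_contra h0
        apply hτ
        have h1 : c / τ c = 1 := by
          apply mul_right_cancel₀ h0
          linear_combination h
        rw [div_eq_one_iff_eq ((map_ne_zero τ).2 hc0)] at h1
        refine RingEquiv.ext fun z => ?_
        rcases eq_or_ne z 0 with rfl | hz
        · simp
        · obtain ⟨l, rfl⟩ := hc z hz
          rw [map_pow, ← h1]; rfl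
      have hTid : ∀ x ∈ Q, ∀ v, T x v = d x 1 * v := fun x hx v => by
        rw [hd, Finset.sum_eq_single 1 (fun τ _ hτ => by rw [hfixd x hx τ hτ, zero_mul])
          (fun h => absurd (Finset.mem_univ _) h)]
        rfl
      have hβQ : ∀ x ∈ Q, β x = 0 := fun x hx => by
        by_cases h0 : d x 1 = 0
        · exact hβA x (hinjσ x hx h0)
        · have := hTβ x
          rw [hTid x hx] at this
          exact (mul_eq_zero.1 this).resolve_left h0
      have hk'Q : k' x₁ ∈ Q ∧ d (k' x₁) 1 = d x₁ 1 := by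
        subst hpw
        clear hkm hfix hk'A
        induction pw with
        | zero => exact ⟨by simpa using hx₁, by simp⟩
        | succ pw ih =>
          rw [pow_apply_succ]
          exact ⟨hkQ _ ih.1, by rw [hdk, ih.2]; simp [div_self hc0]⟩
      obtain ⟨h, hh, hfx⟩ := exists_fixed_coset m hm P hP k' hkm A hk'A x₁
        (hinjσ _ (mul_mem (inv_mem hx₁) hk'Q.1) (by rw [hdadd, hdinv, hk'Q.2, neg_add_cancel]))
      have hyQ : x₁ * h ∈ Q := mul_mem hx₁ (hAQ.le hh)
      have hyy : x₁ * h * (x₁ * h) ∈ Z := hfker _ (hsqA _) (hβQ _ hyQ)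
      have h1 : x₁ * h * (x₁ * h) = 1 := hfix _ (hZc _ hyy) (by rw [map_mul, hfx])
      have := mul_mem (hZA (hinv h1)) (inv_mem hh)
      rw [mul_inv_cancel_right] at this
      exact hx₁' this
    have hVtop : ∀ w, ∃ x ∈ Q, d x σ = w := by
      let V : AddSubgroup (GaloisField 2 n) :=
        { carrier := {w | ∃ x ∈ Q, d x σ = w}
          zero_mem' := ⟨1, one_mem _, hd1 σ⟩
          add_mem' := by
            rintro _ _ ⟨x, hx, rfl⟩ ⟨y, hy, rfl⟩
            exact ⟨x * y, mul_mem hx hy, hdadd x y σ⟩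
          neg_mem' := by
            rintro _ ⟨x, hx, rfl⟩
            exact ⟨x⁻¹, inv_mem hx, hdinv x σ⟩ }
      have := invariant_eq_top hc hc0 hσ1 V (fun w hw => by
        obtain ⟨x, hx, rfl⟩ := hw
        exact ⟨k x, hkQ x hx, hdk x σ⟩) ⟨_, ⟨x₁, hx₁, rfl⟩, hσ⟩
      intro w
      exact (this ▸ AddSubgroup.mem_top w : w ∈ V)
    refine ⟨σ, hσ1, ?_, hVtop⟩
    intro x hx τ hτ
    choose e heQ he using hVtop
    have hwd : ∀ x ∈ Q, d x τ = d (e (d x σ)) τ := fun x hx => by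
      have hA' := hinjσ ((e (d x σ))⁻¹ * x) (mul_mem (inv_mem (heQ _)) hx) (by
        rw [hdadd, hdinv, he, neg_add_cancel])
      have := (hdA _).1 hA' τ
      rw [hdadd, hdinv, neg_add_eq_zero] at this
      exact this.symm
    let L : (GaloisField 2 n) →+ (GaloisField 2 n) := AddMonoidHom.mk' (fun w => d (e w) τ) fun w w' => by
      have := hwd (e w * e w') (mul_mem (heQ _) (heQ _))
      rw [hdadd, hdadd, he, he] at this
      exact this.symm
    obtain ⟨co, hco⟩ := Field.exists_sum_aut L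
    have hL : ∀ w, L (c / σ c * w) = c / τ c * L w := fun w => by
      show d (e (c / σ c * w)) τ = c / τ c * d (e w) τ
      have := hwd (k (e w)) (hkQ _ (heQ _))
      rw [hdk, hdk, he] at this
      exact this.symm
    have hco0 : ∀ ρ, co ρ * (ρ (c / σ c) - c / τ c) = 0 := fun ρ => by
      have := congrFun (coeff_unique (d := fun ρ => co ρ * ρ (c / σ c)) (d' := fun ρ => c / τ c * co ρ)
        fun v => ?_) ρ
      · linear_combination this
      · calc ∑ ρ, co ρ * ρ (c / σ c) * ρ v = L (c / σ c * v) := by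
              rw [hco]; exact Finset.sum_congr rfl fun ρ _ => by rw [map_mul, mul_assoc]
          _ = ∑ ρ, c / τ c * co ρ * ρ v := by
              rw [hL, hco, Finset.mul_sum]; exact Finset.sum_congr rfl fun ρ _ => by rw [mul_assoc]
    have hL0 : L (d x σ) = 0 := by
      rw [hco]
      refine Finset.sum_eq_zero fun ρ _ => ?_
      rcases mul_eq_zero.1 (hco0 ρ) with h | h
      · rw [h, zero_mul]
      · exact absurd (aut_ratio hc hc0 hσ1 (sub_eq_zero.1 h)).2 hτ
    rw [hwd x hx]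
    exact hL0
  have hTQ : ∀ (Q : Subgroup P) (σ : (GaloisField 2 n) ≃+* (GaloisField 2 n)), (∀ x ∈ Q, ∀ τ, τ ≠ σ → d x τ = 0) →
      ∀ x ∈ Q, ∀ v, T x v = d x σ * σ v := fun Q σ hQ x hx v => by
    rw [hd, Finset.sum_eq_single σ (fun τ _ hτ => by rw [hQ x hx τ hτ, zero_mul])
      (fun h => absurd (Finset.mem_univ _) h)]
  have hβQ : ∀ Q, Min Q → ∀ x ∈ Q, β x = 0 := by
    intro Q hQ x hx
    obtain ⟨σ, -, hQσ, -⟩ := hsingle Q hQ
    by_cases h0 : d x σ = 0
    · exact hβA x ((hdA x).2 fun τ => by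
        by_cases h : τ = σ
        · rw [h]; exact h0
        · exact hQσ x hx τ h)
    · have := hTβ x
      rw [hTQ Q σ hQσ x hx] at this
      exact (map_eq_zero σ).1 ((mul_eq_zero.1 this).resolve_left h0)
  obtain ⟨Q₁, hQ₁, Q₂, hQ₂, x, hx, y, hy, hxy⟩ :
      ∃ Q₁, Min Q₁ ∧ ∃ Q₂, Min Q₂ ∧ ∃ x ∈ Q₁, ∃ y ∈ Q₂, γ x y ≠ 0 := by
    by_contra hne
    push Not at hne
    have key : ∀ (l : ℕ) (x : P), (Finset.univ.filter fun σ => d x σ ≠ 0).card ≤ l →
        β x = 0 ∧ ∀ Q, Min Q → ∀ y ∈ Q, γ x y = 0 := by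
      intro l
      induction l with
      | zero =>
        intro x hx
        have hxA : x ∈ A := (hdA x).2 fun σ => by
          by_contra h
          have := Finset.card_pos.2 (⟨σ, by simp [h]⟩ :
            (Finset.univ.filter fun σ => d x σ ≠ 0).Nonempty)
          omega
        exact ⟨hβA x hxA, fun Q _ y _ => (hγA x hxA y).1⟩
      | succ l ih =>
        intro x hx
        by_cases hxA : x ∈ A
        · exact ⟨hβA x hxA, fun Q _ y _ => (hγA x hxA y).1⟩
        let S : Set ((GaloisField 2 n) ≃+* (GaloisField 2 n)) := {σ | d x σ = 0}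
        have hInv : Inv (K S) := ⟨lt_of_le_of_ne (fun a ha τ _ => (hdA a).1 ha τ)
          (fun e => hxA (e ▸ (fun σ hσ => hσ : x ∈ K S))), hkK S⟩
        obtain ⟨Q, ⟨hQi, hQle⟩, hQmin⟩ :=
          (Set.toFinite {Q : Subgroup P | Inv Q ∧ Q ≤ K S}).exists_minimal ⟨K S, hInv, le_rfl⟩
        have hQ : Min Q := ⟨hQi, fun R hR hRQ => le_antisymm hRQ (hQmin ⟨hR, hRQ.trans hQle⟩ hRQ)⟩
        obtain ⟨σ, -, hQσ, hQs⟩ := hsingle Q hQ
        have hσ : d x σ ≠ 0 := fun h => by
          obtain ⟨y, hy, hy'⟩ := hQs 1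
          exact one_ne_zero (hy'.symm.trans (hQle hy σ h))
        obtain ⟨y, hy, hy'⟩ := hQs (d x σ)
        have hcard : (Finset.univ.filter fun τ => d (x * y⁻¹) τ ≠ 0).card ≤ l := by
          refine Nat.le_of_lt_succ (lt_of_lt_of_le (Finset.card_lt_card ?_) hx)
          refine Finset.ssubset_iff_subset_ne.2 ⟨fun τ hτ => ?_, fun e => ?_⟩
          · simp only [Finset.mem_filter, Finset.mem_univ, true_and] at hτ ⊢
            intro h
            apply hτ
            rw [hdadd, hdinv, h, hQle hy τ h, neg_zero, add_zero]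
          · have : σ ∈ Finset.univ.filter fun τ => d (x * y⁻¹) τ ≠ 0 := by
              rw [e]; simp [hσ]
            simp [hdadd, hdinv, hy'] at this
        obtain ⟨h1, h2⟩ := ih (x * y⁻¹) hcard
        have hxe : x = x * y⁻¹ * y := (inv_mul_cancel_right x y).symm
        refine ⟨?_, fun R hR z hz => ?_⟩
        · rw [hxe, hβ, h1, hβQ Q hQ y hy, h2 Q hQ y hy, add_zero, add_zero]
        · rw [hxe, hγl, h2 R hR z hz, hne Q hQ R hR y hy z hz, add_zero]
    apply hx₀
    exact hfker _ (hsqA x₀) (key _ x₀ le_rfl).1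
  obtain ⟨σ, hσ1, hQσ, hQσs⟩ := hsingle Q₁ hQ₁
  obtain ⟨τ, hτ1, hQτ, hQτs⟩ := hsingle Q₂ hQ₂
  have hA1 : A ≤ Q₁ := hQ₁.1.1.le
  have hστ : σ ≠ τ := by
    rintro rfl
    obtain ⟨x', hx', e⟩ := hQσs (d y σ)
    have hA' : x'⁻¹ * y ∈ A := (hdA _).2 fun ρ => by
      rw [hdadd, hdinv]
      by_cases h : ρ = σ
      · rw [h, e, neg_add_cancel]
      · rw [hQσ x' hx' ρ h, hQτ y hy ρ h, neg_zero, add_zero]
    have hy' : y ∈ Q₁ := by
      have := mul_mem hx' (hA1 hA')
      rwa [mul_inv_cancel_left] at this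
    have := hβ x y
    rw [hβQ _ hQ₁ _ (mul_mem hx hy'), hβQ _ hQ₁ _ hx, hβQ _ hQ₁ _ hy', zero_add, zero_add] at this
    exact hxy this.symm
  have hrel : ∀ x ∈ Q₁, ∀ y ∈ Q₂, d x σ * σ (γ x y) + d y τ * τ (γ x y) = 0 := fun x hx y hy => by
    have h := hTβ (x * y)
    rw [hβ, hβQ _ hQ₁ _ hx, hβQ _ hQ₂ _ hy, zero_add, zero_add, hTx, hTQ _ σ hQσ x hx,
      hTQ _ τ hQτ y hy] at h
    exact h
  have hside : ∀ (Q : Subgroup P) (σ τ : (GaloisField 2 n) ≃+* (GaloisField 2 n)) (g : P → (GaloisField 2 n)) (D : (GaloisField 2 n)),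
      (∀ x ∈ Q, ∀ ρ, ρ ≠ σ → d x ρ = 0) → (∀ w, ∃ x ∈ Q, d x σ = w) →
      (∀ x x', g (x * x') = g x + g x') → (∀ a ∈ A, g a = 0) → (∃ x ∈ Q, g x ≠ 0) → D ≠ 0 →
      (∀ x ∈ Q, d x σ * σ (g x) + D * τ (g x) = 0) → ∀ v, τ v = σ v * σ v := by
    intro Q σ τ g D hQ hQs hg hgA ⟨x, hx, hgx⟩ hD hr v
    choose e heQ he using hQs
    have hwd : ∀ x ∈ Q, g x = g (e (d x σ)) := fun x hx => by
      have hA' : (e (d x σ))⁻¹ * x ∈ A := (hdA _).2 fun ρ => by
        rw [hdadd, hdinv]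
        by_cases h : ρ = σ
        · rw [h, he, neg_add_cancel]
        · rw [hQ x hx ρ h, hQ _ (heQ _) ρ h, neg_zero, add_zero]
      have := hg (e (d x σ)) ((e (d x σ))⁻¹ * x)
      rwa [mul_inv_cancel_left, hgA _ hA', add_zero] at this
    let G : (GaloisField 2 n) →+ (GaloisField 2 n) := AddMonoidHom.mk' (fun w => g (e w)) fun w w' => by
      have := hwd (e w * e w') (mul_mem (heQ _) (heQ _))
      rw [hg, hdadd, he, he] at this
      exact this.symm
    refine frob_of_relation σ τ G D hD (fun h => hgx ?_) (fun w => ?_) v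
    · rw [hwd x hx]; exact DFunLike.congr_fun h (d x σ)
    · have := hr (e w) (heQ w)
      rwa [he] at this
  have hDy : d y τ ≠ 0 := fun h => hxy (hγA y ((hdA y).2 fun ρ => by
    by_cases h' : ρ = τ
    · rw [h']; exact h
    · exact hQτ y hy ρ h') x).2
  have hDx : d x σ ≠ 0 := fun h => hxy (hγA x ((hdA x).2 fun ρ => by
    by_cases h' : ρ = σ
    · rw [h']; exact h
    · exact hQσ x hx ρ h') y).1
  have e1 := hside Q₁ σ τ (fun u => γ u y) (d y τ) hQσ hQσs (fun u u' => hγl u u' y)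
    (fun a ha => (hγA a ha y).1) ⟨x, hx, hxy⟩ hDy (fun u hu => hrel u hu y hy)
  have e2 := hside Q₂ τ σ (fun u => γ x u) (d x σ) hQτ hQτs (fun u u' => hγr x u u')
    (fun a ha => (hγA a ha x).2) ⟨y, hy, hxy⟩ hDx
    (fun u hu => by rw [add_comm]; exact hrel x hx u hu)
  have h4 : ∀ w : (GaloisField 2 n), w ^ 4 = w := fun w => by
    obtain ⟨v, rfl⟩ := σ.surjective w
    have h := e2 v
    rw [e1] at h
    linear_combination -h
  have hcard : Fintype.card (GaloisField 2 n) ≤ 4 := by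
    have hP0 := FiniteField.X_pow_card_sub_X_ne_zero (K' := (GaloisField 2 n)) (show 1 < 4 by norm_num)
    have := Polynomial.card_le_degree_of_subset_roots (p := (Polynomial.X ^ 4 - Polynomial.X : Polynomial (GaloisField 2 n)))
      (Z := Finset.univ) (fun x _ => by
        rw [Polynomial.mem_roots hP0]
        simp [h4])
    rwa [FiniteField.X_pow_card_sub_X_natDegree_eq (K' := (GaloisField 2 n)) (show 1 < 4 by norm_num)] at this
  let _ := ZMod.algebra (GaloisField 2 n) 2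
  have hfr := Field.card_aut (F := GaloisField 2 n)
  have hcard' : Fintype.card (GaloisField 2 n) = 2 ^ Module.finrank (ZMod 2) (GaloisField 2 n) := by
    rw [Module.card_eq_pow_finrank (K := ZMod 2) (V := (GaloisField 2 n)), ZMod.card]
  have h3 : 3 ≤ Nat.card ((GaloisField 2 n) ≃+* (GaloisField 2 n)) := by
    rw [Nat.card_eq_fintype_card]
    calc 3 = ({1, σ, τ} : Finset ((GaloisField 2 n) ≃+* (GaloisField 2 n))).card := by
          rw [Finset.card_insert_of_notMem (by simp [hσ1.symm, hτ1.symm]),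
            Finset.card_insert_of_notMem (by simp [hστ]), Finset.card_singleton]
      _ ≤ _ := Finset.card_le_univ _
  have : 2 ^ 3 ≤ Fintype.card (GaloisField 2 n) := by
    rw [hcard']
    exact Nat.pow_le_pow_right (by norm_num) (hfr ▸ h3)
  omega

end CfsgLib.Chev.Suz2
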