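/-
The order of a Suzuki 2-group.
-/
import Cfsg.Agent.Lib.Chev.Suz2.SquaresCentral

set_option autoImplicit false

namespace CfsgLib.Chev.Suz2

/-! ### functions of bounded degree on elementary abelian 2-groups -/

section degree

variable {V : Type*} [AddCommGroup V]

/-- all derivatives of order `d + 1` vanish -/
def DegLE : ℕ → (V → ZMod 2) → Prop
  | 0, f => ∀ x y, f x = f y
  | d + 1, f => ∀ h, DegLE d (fun x => f (x + h) + f x)

lemma DegLE.const (d : ℕ) : ∀ c : ZMod 2, DegLE d (fun _ : V => c) := by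
  induction d with
  | zero => intro c x y; rfl
  | succ d ih => intro c h; exact ih (c + c)

lemma DegLE.add : ∀ {d : ℕ} {f g : V → ZMod 2}, DegLE d f → DegLE d g → DegLE d (fun x => f x + g x)
  | 0, _, _, hf, hg => fun x y => congrArg₂ (· + ·) (hf x y) (hg x y)
  | d + 1, f, g, hf, hg => fun h => by
    have := (hf h).add (hg h)
    convert this using 2 with x
    ring

lemma DegLE.shift : ∀ {d : ℕ} {f : V → ZMod 2}, DegLE d f → ∀ a, DegLE d (fun x => f (x + a))
  | 0, _, hf, _ => fun _ _ => hf _ _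
  | d + 1, f, hf, a => fun h => by
    have := (hf h).shift a
    convert this using 2
    congr 2; abel

lemma DegLE.comp {W : Type*} [AddCommGroup W] (e : W →+ V) :
    ∀ {d : ℕ} {f : V → ZMod 2}, DegLE d f → DegLE d (fun x => f (e x))
  | 0, _, hf => fun _ _ => hf _ _
  | d + 1, f, hf => fun h => by
    have := (hf (e h)).comp e
    simpa only [map_add] using this

lemma DegLE.const_mul {d : ℕ} {f : V → ZMod 2} (hf : DegLE d f) (c : ZMod 2) :
    DegLE d (fun x => c * f x) := by
  rcases Field.zmod_cases c with rfl | rfl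
  · simpa using DegLE.const (V := V) d 0
  · simpa using hf

lemma DegLE.mul : ∀ (s d e : ℕ), d + e = s → ∀ {f g : V → ZMod 2}, DegLE d f → DegLE e g →
    DegLE s (fun x => f x * g x) := by
  intro s
  induction s with
  | zero =>
    intro d e h f g hf hg
    obtain ⟨rfl, rfl⟩ : d = 0 ∧ e = 0 := by omega
    exact fun x y => congrArg₂ (· * ·) (hf x y) (hg x y)
  | succ s ih =>
    intro d e h f g hf hg
    cases d with
    | zero =>
      obtain rfl : e = s + 1 := by omega
      have : (fun x => f x * g x) = fun x => f 0 * g x := funext fun x => by rw [hf x 0]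
      rw [this]
      exact hg.const_mul _
    | succ d =>
      cases e with
      | zero =>
        obtain rfl : d = s := by omega
        have : (fun x => f x * g x) = fun x => g 0 * f x := funext fun x => by rw [hg x 0, mul_comm]
        rw [this]
        exact hf.const_mul _
      | succ e =>
        intro a
        have h1 := ih d (e + 1) (by omega) (hf a) (hg.shift a)
        have h2 := ih (d + 1) e (by omega) hf (hg a)
        convert h1.add h2 using 2 with x
        linear_combination -(CharTwo.add_self_eq_zero (f x * g (x + a)))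

lemma DegLE.prod {ι : Type*} (S : Finset ι) (q : ι → V → ZMod 2) (d : ℕ) (h : ∀ i ∈ S, DegLE d (q i)) :
    DegLE (d * S.card) (fun x => ∏ i ∈ S, q i x) := by
  classical
  induction S using Finset.induction_on with
  | empty => simpa using DegLE.const (V := V) 0 1
  | insert a S ha ih =>
    simp only [Finset.prod_insert ha, Finset.card_insert_of_notMem ha]
    exact DegLE.mul _ d (d * S.card) (by ring) (h a (Finset.mem_insert_self a S))
      (ih fun i hi => h i (Finset.mem_insert_of_mem hi))

end degree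

theorem sum_eq_zero_of_degLE : ∀ (m d : ℕ) (f : (Fin m → ZMod 2) → ZMod 2), DegLE d f → d < m →
    ∑ v, f v = 0 := by
  intro m
  induction m with
  | zero => intro d f _ h; omega
  | succ m ih =>
    intro d f hf hd
    rw [← (Fin.consEquiv fun _ : Fin (m + 1) => ZMod 2).sum_comp, Fintype.sum_prod_type,
      Finset.sum_comm]
    simp only [Fin.consEquiv, Equiv.coe_fn_mk]
    have hz : ∀ g : ZMod 2 → ZMod 2, ∑ x, g x = g 0 + g 1 := fun g => Fin.sum_univ_two g
    simp only [hz]
    show ∑ v : Fin m → ZMod 2, (f (Fin.cons 0 v) + f (Fin.cons 1 v)) = 0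
    cases d with
    | zero =>
      refine Finset.sum_eq_zero fun v _ => ?_
      rw [hf (Fin.cons 1 v) (Fin.cons 0 v)]
      exact CharTwo.add_self_eq_zero _
    | succ d =>
      let e : (Fin m → ZMod 2) →+ (Fin (m + 1) → ZMod 2) :=
        AddMonoidHom.mk' (fun v => Fin.cons 0 v) fun v w => by
          funext i; cases i using Fin.cases <;> simp
      have h := (hf (Fin.cons 1 0)).comp e
      refine (Finset.sum_congr rfl fun v _ => ?_).trans (ih d _ h (by omega))
      show f (Fin.cons 0 v) + f (Fin.cons 1 v) = f (Fin.cons 0 v + Fin.cons 1 0) + f (Fin.cons 0 v)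
      rw [show (Fin.cons 0 v + Fin.cons 1 0 : Fin (m + 1) → ZMod 2) = Fin.cons 1 v by
        funext i; cases i using Fin.cases <;> simp, add_comm]

/-! ### the order -/

theorem card_cases {P : Type*} [Group P] [Finite P] (hP : IsPGroup 2 P)
    (hna : ∃ x y : P, x * y ≠ y * x) (k : MulAut P) (hk : Trans k)
    (h2 : ∃ a b : P, a ≠ b ∧ a ≠ 1 ∧ a * a = 1 ∧ b ≠ 1 ∧ b * b = 1) :
    (∀ x y : P, cm x y ∈ Subgroup.center P) ∧ (Nat.card P = Nat.card (Subgroup.center P) ^ 2 ∨
      Nat.card P = Nat.card (Subgroup.center P) ^ 3) := by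
  classical
  haveI := Fact.mk Nat.prime_two
  have hsqZ := squares_central hP hna k hk h2
  obtain ⟨x₀, y₀, hxy⟩ := hna
  set Z := Subgroup.center P with hZdef
  have hZmem : ∀ {z : P}, z ∈ Z → ∀ g : P, g * z = z * g := fun hz => Subgroup.mem_center_iff.1 hz
  have hZc : ∀ z ∈ Z, z * z = 1 := center_elementary (Nat.card P) P le_rfl hP ⟨x₀, y₀, hxy⟩ k hk
  have hinv : ∀ {x : P}, x * x = 1 → x ∈ Z := fun h => invol_central hP k hk h
  have hkZ : ∀ {x : P}, x ∈ Z → k x ∈ Z := fun {x} hx => Subgroup.mem_center_iff.2 fun y => by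
    obtain ⟨y, rfl⟩ := k.surjective y
    rw [← map_mul, ← map_mul, hZmem hx y]
  have hcmZ : ∀ x y : P, cm x y ∈ Z := fun x y => by
    rw [show cm x y = x⁻¹ * y⁻¹ * (x⁻¹ * y⁻¹) * (y * (x * x) * y⁻¹) * (y * y) by simp [cm, mul_assoc]]
    refine mul_mem (mul_mem (hsqZ _) ?_) (hsqZ _)
    exact (inferInstance : (Subgroup.center P).Normal).conj_mem _ (hsqZ x) y
  refine ⟨hcmZ, ?_⟩
  letI : CommGroup (P ⧸ Z) :=
    { (inferInstance : Group (P ⧸ Z)) with
      mul_comm := fun s t => by
        induction s using QuotientGroup.induction_on with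
        | H x =>
          induction t using QuotientGroup.induction_on with
          | H y =>
            rw [← QuotientGroup.mk_mul, ← QuotientGroup.mk_mul, mul_eq_mul_cm x y, QuotientGroup.mk_mul,
              (QuotientGroup.eq_one_iff _).2 (hcmZ x y), mul_one] }
  letI : CommGroup ↥Z :=
    { (inferInstance : Group ↥Z) with mul_comm := fun s t => Subtype.ext (hZmem t.2 s) }
  let Q : P ⧸ Z → ↥Z := Quotient.lift (fun x => (⟨x * x, hsqZ x⟩ : ↥Z)) fun x y h => by
    have hm : x⁻¹ * y ∈ Z := QuotientGroup.leftRel_apply.1 h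
    refine Subtype.ext ?_
    show x * x = y * y
    conv_rhs => rw [← mul_inv_cancel_left x y, sq_mul (hcmZ _ _),
      hZc _ hm, mul_one, (cm_eq_one_iff _ _).2 (hZmem hm x).symm, mul_one]
  have hQ : ∀ x : P, Q (QuotientGroup.mk x) = ⟨x * x, hsqZ x⟩ := fun x => rfl
  have hQ0 : ∀ t, Q t = 1 → t = 1 := fun t => by
    induction t using QuotientGroup.induction_on with
    | H x =>
      intro h
      exact (QuotientGroup.eq_one_iff x).2 (hinv (congrArg Subtype.val h))
  have hntq : Nontrivial (P ⧸ Z) := by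
    refine ⟨QuotientGroup.mk x₀, 1, fun h => ?_⟩
    exact hxy (hZmem ((QuotientGroup.eq_one_iff x₀).1 h) y₀).symm
  have hntz : Nontrivial ↥Z := by
    obtain ⟨t, ht⟩ := exists_ne (1 : P ⧸ Z)
    exact ⟨Q t, 1, fun h => ht (hQ0 t h)⟩
  -- coordinates on the centre
  obtain ⟨kz, hkz⟩ := exists_restrict k Z (fun x hx => hkZ hx)
  have hTz : Trans kz := by
    intro s t hs hs' ht ht'
    obtain ⟨j, hj⟩ := hk s t (fun h => hs (Subtype.ext h)) (congrArg Subtype.val hs')
      (fun h => ht (Subtype.ext h)) (congrArg Subtype.val ht')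
    exact ⟨j, Subtype.ext (by rw [hkz, hj])⟩
  obtain ⟨n, i, c, hn, hi, hiadd, -, -⟩ := exists_coord (fun z : ↥Z => Subtype.ext (hZc _ z.2)) kz hTz
  have hi1 : i 1 = 0 := by simpa using hiadd 1 1
  have hcardZ : Nat.card ↥Z = 2 ^ n := by
    rw [Nat.card_eq_of_bijective i hi, GaloisField.card 2 n hn]
  -- a basis of the quotient
  have hqexp' : ∀ t : P ⧸ Z, t * t = 1 := fun t => by
    induction t using QuotientGroup.induction_on with
    | H x => rw [← QuotientGroup.mk_mul]; exact (QuotientGroup.eq_one_iff _).2 (hsqZ x)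
  have hqexp : ∀ t : Additive (P ⧸ Z), 2 • t = 0 := fun t => by
    rw [two_nsmul]
    exact congrArg Additive.ofMul (hqexp' (Additive.toMul t))
  letI : Module (ZMod 2) (Additive (P ⧸ Z)) := AddCommGroup.zmodModule hqexp
  let e := (Module.finBasis (ZMod 2) (Additive (P ⧸ Z))).equivFun
  set m := Module.finrank (ZMod 2) (Additive (P ⧸ Z))
  have hcardX : Nat.card (P ⧸ Z) = 2 ^ m := by
    rw [Nat.card_congr (Additive.ofMul (α := P ⧸ Z)), Nat.card_congr e.toEquiv, Nat.card_eq_fintype_card,
      Fintype.card_fun, ZMod.card, Fintype.card_fin]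
  let _ := ZMod.algebra (GaloisField 2 n) 2
  let b := Module.finBasis (ZMod 2) (GaloisField 2 n)
  have hfr : Module.finrank (ZMod 2) (GaloisField 2 n) = n := by
    convert GaloisField.finrank 2 hn
    exact Subsingleton.elim _ _
  let S : (Fin m → ZMod 2) → GaloisField 2 n := fun v => i (Q (Additive.toMul (e.symm v)))
  have hS0 : S 0 = 0 := by
    show i (Q (Additive.toMul (e.symm 0))) = 0
    rw [map_zero, toMul_zero]
    show i (Q (QuotientGroup.mk 1)) = 0
    rw [hQ, ← hi1]
    exact congrArg i (Subtype.ext (one_mul 1))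
  have hq : ∀ u v w, S (u + v + w) + S (u + v) + S (u + w) + S (v + w) + S u + S v + S w = 0 := by
    intro u v w
    simp only [S, map_add, toMul_add]
    obtain ⟨x, hx⟩ := QuotientGroup.mk_surjective (Additive.toMul (e.symm u))
    obtain ⟨y, hy⟩ := QuotientGroup.mk_surjective (Additive.toMul (e.symm v))
    obtain ⟨z, hz⟩ := QuotientGroup.mk_surjective (Additive.toMul (e.symm w))
    rw [← hx, ← hy, ← hz, ← QuotientGroup.mk_mul, ← QuotientGroup.mk_mul, ← QuotientGroup.mk_mul,
      ← QuotientGroup.mk_mul]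
    simp only [hQ]
    have hmul : ∀ p r : P, i ⟨p * r * (p * r), hsqZ _⟩ = i ⟨p * p, hsqZ p⟩ + i ⟨r * r, hsqZ r⟩ +
        i ⟨cm r p, hcmZ r p⟩ := fun p r => by
      rw [← hiadd, ← hiadd]; exact congrArg i (Subtype.ext (sq_mul (hcmZ r p)))
    have he : i ⟨cm z (x * y), hcmZ z (x * y)⟩ = i ⟨cm z y, hcmZ z y⟩ + i ⟨cm z x, hcmZ z x⟩ := by
      rw [← hiadd]; exact congrArg i (Subtype.ext (cm_mul_right (hcmZ z x)))
    rw [hmul (x * y) z, hmul x y, hmul x z, hmul y z, he]
    linear_combination (2 * i ⟨x * x, hsqZ x⟩ + 2 * i ⟨y * y, hsqZ y⟩ + 2 * i ⟨z * z, hsqZ z⟩ +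
      i ⟨cm y x, hcmZ y x⟩ + i ⟨cm z x, hcmZ z x⟩ + i ⟨cm z y, hcmZ z y⟩) *
        CharTwo.two_eq_zero (R := GaloisField 2 n)
  have hdeg : ∀ l, DegLE 2 (fun v => b.repr (S v) l) := by
    intro l g h x y
    have key : ∀ x, b.repr (S (x + h + g)) l + b.repr (S (x + h)) l + (b.repr (S (x + g)) l + b.repr (S x) l) =
        b.repr (S (h + g)) l + b.repr (S h) l + b.repr (S g) l := by
      intro x
      have := congrArg (fun t => b.repr t l) (hq x h g)
      simp only [map_add, map_zero, Finsupp.add_apply, Finsupp.zero_apply] at this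
      refine CharTwo.add_eq_zero.1 ?_
      linear_combination this
    show b.repr (S (x + h + g)) l + b.repr (S (x + h)) l + (b.repr (S (x + g)) l + b.repr (S x) l) =
      b.repr (S (y + h + g)) l + b.repr (S (y + h)) l + (b.repr (S (y + g)) l + b.repr (S y) l)
    rw [key, key]
  have hmn : m ≤ 2 * n := by
    by_contra hlt
    have hdeg' : DegLE (2 * (Finset.univ : Finset (Fin (Module.finrank (ZMod 2) (GaloisField 2 n)))).card)
        (fun v => ∏ l, (1 + b.repr (S v) l)) :=
      DegLE.prod _ _ 2 fun l _ => (DegLE.const 2 1).add (hdeg l)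
    have := sum_eq_zero_of_degLE m _ _ hdeg' (by rw [Finset.card_univ, Fintype.card_fin, hfr]; omega)
    rw [Finset.sum_eq_single 0 (fun v _ hv => ?_) (fun h => absurd (Finset.mem_univ _) h)] at this
    · simp [hS0] at this
    · obtain ⟨l, hl⟩ : ∃ l, b.repr (S v) l ≠ 0 := by
        by_contra h
        push Not at h
        apply hv
        have h1 : S v = 0 := b.repr.injective (by ext l; simp [h l])
        have h2 : Additive.toMul (e.symm v) = 1 := hQ0 _ (hi.1 (h1.trans hi1.symm))
        rw [← e.apply_symm_apply v, show e.symm v = 0 from h2, map_zero]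
      refine Finset.prod_eq_zero (Finset.mem_univ l) ?_
      rw [(Field.zmod_cases _).resolve_left hl]
      exact CharTwo.add_self_eq_zero 1
  -- the squaring map has fibres of equal size
  have hmap : Z.map k.toMonoidHom = Z := Subgroup.characteristic_iff_map_eq.1 inferInstance k
  let kq : MulAut (P ⧸ Z) := QuotientGroup.congr Z Z k hmap
  have hQk : ∀ t, Q (kq t) = kz (Q t) := fun t => by
    induction t using QuotientGroup.induction_on with
    | H x =>
      refine Subtype.ext ?_
      have := hkz 1 ⟨x * x, hsqZ x⟩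
      rw [pow_one, pow_one] at this
      rw [hQ, this, map_mul]
      rfl
  obtain ⟨z₀, hz₀⟩ := exists_ne (1 : ↥Z)
  let N : ↥Z → ℕ := fun z => Nat.card {t : P ⧸ Z // Q t = z}
  have hN : ∀ z : ↥Z, z ≠ 1 → N z = N z₀ := by
    intro z hz
    obtain ⟨l, rfl⟩ := hTz z₀ z hz₀ (Subtype.ext (hZc _ z₀.2)) hz (Subtype.ext (hZc _ z.2))
    clear hz
    induction l with
    | zero => rfl
    | succ l ih =>
      rw [pow_apply_succ, ← ih]
      exact (Nat.card_congr (kq.toEquiv.subtypeEquiv fun t => by
        rw [MulEquiv.toEquiv_eq_coe, MulEquiv.coe_toEquiv, hQk, kz.injective.eq_iff])).symm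
  have := Fintype.ofFinite ↥Z
  have hsum : Nat.card (P ⧸ Z) = 1 + (2 ^ n - 1) * N z₀ := by
    rw [← Nat.card_congr (Equiv.sigmaFiberEquiv Q), Nat.card_sigma,
      ← Finset.add_sum_erase _ _ (Finset.mem_univ (1 : ↥Z)),
      Finset.sum_congr rfl (fun z hz => hN z (Finset.ne_of_mem_erase hz)), Finset.sum_const,
      Finset.card_erase_of_mem (Finset.mem_univ _), Finset.card_univ, ← Nat.card_eq_fintype_card, hcardZ,
      smul_eq_mul]
    congr 1
    rw [Nat.card_eq_one_iff_exists]
    exact ⟨⟨1, by rw [← QuotientGroup.mk_one, hQ]; exact Subtype.ext (one_mul 1)⟩,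
      fun t => Subtype.ext (hQ0 t t.2)⟩
  have hdvd : n ∣ m := by
    have h1 : 2 ^ n - 1 ∣ 2 ^ m - 1 := ⟨N z₀, by rw [← hcardX, hsum]; omega⟩
    have h2 := Nat.pow_sub_one_gcd_pow_sub_one 2 n m
    rw [Nat.gcd_eq_left h1] at h2
    have h3 : 2 ^ n = 2 ^ Nat.gcd n m := by
      have := Nat.one_le_two_pow (n := n)
      have := Nat.one_le_two_pow (n := Nat.gcd n m)
      omega
    have := Nat.pow_right_injective le_rfl h3
    rw [this]; exact Nat.gcd_dvd_right n m
  obtain ⟨r, hr⟩ := hdvd
  have hm0 : m ≠ 0 := fun h => by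
    rw [h, pow_zero] at hcardX
    have := Finite.one_lt_card (α := P ⧸ Z)
    omega
  have hr2 : r = 1 ∨ r = 2 := by
    have h1 : r ≤ 2 := Nat.le_of_mul_le_mul_left (by rw [← hr, mul_comm]; exact hmn) (Nat.pos_of_ne_zero hn)
    have h0 : r ≠ 0 := fun h => hm0 (by rw [hr, h, mul_zero])
    omega
  rw [Subgroup.card_eq_card_quotient_mul_card_subgroup Z, hcardX, hcardZ, hr]
  rcases hr2 with rfl | rfl
  · left; rw [← pow_add, ← pow_mul]; ring_nf
  · right; rw [← pow_add, ← pow_mul]; ring_nf

end CfsgLib.Chev.Suz2
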