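/-
Suzuki 2-groups of order the square of the order of the centre are of type A.
-/
import Cfsg.Agent.Lib.Chev.Suz2.Center
import Cfsg.Agent.Lib.Chev.Field.AutSpan
import Cfsg.Prelude.Def_LieRecognition

set_option autoImplicit false

namespace CfsgLib.Chev.Suz2

/-! ### the matrix group -/

section model

variable {F : Type*} [Field F] (φ : F →+* F)

/-- the matrix with parameters `u`, `v` -/
def typeAMat (u v : F) : Matrix (Fin 3) (Fin 3) F := !![1, 0, 0; u, 1, 0; v, φ u, 1]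

lemma typeAMat_mul (u v u' v' : F) :
    typeAMat φ u v * typeAMat φ u' v' = typeAMat φ (u + u') (v + v' + φ u * u') := by
  ext i j
  fin_cases i <;> fin_cases j <;>
    simp [typeAMat, Matrix.mul_apply, Fin.sum_univ_three, map_add] <;> ring

lemma typeAMat_zero : typeAMat φ 0 0 = 1 := by
  ext i j
  fin_cases i <;> fin_cases j <;> simp [typeAMat]

/-- the invertible matrix with parameters `u`, `v` -/
def typeAElt (u v : F) : GL (Fin 3) F where
  val := typeAMat φ u v
  inv := typeAMat φ (-u) (-v + φ u * u)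
  val_inv := by
    rw [typeAMat_mul, ← typeAMat_zero φ]
    congr 1 <;> ring
  inv_val := by
    rw [typeAMat_mul, ← typeAMat_zero φ, map_neg]
    congr 1 <;> ring

lemma typeAElt_mul (u v u' v' : F) :
    typeAElt φ u v * typeAElt φ u' v' = typeAElt φ (u + u') (v + v' + φ u * u') :=
  Units.ext (typeAMat_mul φ u v u' v')

lemma typeAElt_one : typeAElt φ 0 0 = 1 := Units.ext (typeAMat_zero φ)

lemma typeAElt_inj {u v u' v' : F} (h : typeAElt φ u v = typeAElt φ u' v') : u = u' ∧ v = v' := by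
  have h' : typeAMat φ u v = typeAMat φ u' v' := congrArg Units.val h
  exact ⟨congrFun (congrFun h' 1) 0, congrFun (congrFun h' 2) 0⟩

lemma typeAElt_inv (u v : F) : (typeAElt φ u v)⁻¹ = typeAElt φ (-u) (-v + φ u * u) :=
  Units.ext rfl

lemma mem_suzukiTypeA (g : GL (Fin 3) F) :
    g ∈ Cfsg.suzukiTypeA F φ ↔ ∃ u v, g = typeAElt φ u v := by
  constructor
  · intro h
    induction h using Subgroup.closure_induction with
    | mem g hg => obtain ⟨u, v, e⟩ := hg; exact ⟨u, v, Units.ext e⟩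
    | one => exact ⟨0, 0, (typeAElt_one φ).symm⟩
    | mul g h _ _ hg hh =>
      obtain ⟨u, v, rfl⟩ := hg
      obtain ⟨u', v', rfl⟩ := hh
      exact ⟨_, _, typeAElt_mul φ u v u' v'⟩
    | inv g _ hg =>
      obtain ⟨u, v, rfl⟩ := hg
      exact ⟨_, _, typeAElt_inv φ u v⟩
  · rintro ⟨u, v, rfl⟩
    exact Subgroup.subset_closure ⟨u, v, rfl⟩

end model

/-! ### recognition from the squaring map -/

theorem nonempty_iso_typeA {P : Type*} [Group P] [Finite P] {F : Type*} [Field F] [CharP F 2]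
    (φ : F →+* F) (a : P → F) (b : ↥(Subgroup.center P) → F)
    (hadd : ∀ x y, a (x * y) = a x + a y) (hsurj : Function.Surjective a)
    (hker : ∀ x, a x = 0 ↔ x ∈ Subgroup.center P) (hb : Function.Bijective b)
    (hbadd : ∀ z w, b (z * w) = b z + b w)
    (hsq : ∀ x : P, ∃ h : x * x ∈ Subgroup.center P, b ⟨x * x, h⟩ = φ (a x) * a x) :
    Nonempty (P ≃* Cfsg.suzukiTypeA F φ) := by
  classical
  have a1 : a 1 = 0 := (hker 1).2 (one_mem _)
  have ainv : ∀ x, a x⁻¹ = - a x := fun x => eq_neg_of_add_eq_zero_left (by rw [← hadd, inv_mul_cancel, a1])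
  have b1 : b 1 = 0 := by simpa using hbadd 1 1
  have : Finite F := Finite.of_surjective a hsurj
  let E : Subgroup (P × GL (Fin 3) F) :=
    { carrier := {e | ∃ v, e.2 = typeAElt φ (a e.1) v}
      one_mem' := ⟨0, by rw [Prod.fst_one, a1, typeAElt_one, Prod.snd_one]⟩
      mul_mem' := by
        rintro e e' ⟨v, hv⟩ ⟨v', hv'⟩
        exact ⟨_, by rw [Prod.snd_mul, hv, hv', typeAElt_mul, Prod.fst_mul, hadd]⟩
      inv_mem' := by
        rintro e ⟨v, hv⟩
        exact ⟨_, by rw [Prod.snd_inv, hv, typeAElt_inv, Prod.fst_inv, ainv]⟩ }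
  let ι : ↥(Subgroup.center P) →* ↥E :=
    { toFun := fun z => ⟨(z, typeAElt φ 0 (b z)), b z, by rw [(hker _).2 z.2]⟩
      map_one' := Subtype.ext (Prod.ext rfl (by
        show typeAElt φ 0 (b 1) = 1
        rw [b1, typeAElt_one]))
      map_mul' := fun z w => Subtype.ext (Prod.ext rfl (by
        show typeAElt φ 0 (b (z * w)) = typeAElt φ 0 (b z) * typeAElt φ 0 (b w)
        rw [typeAElt_mul, hbadd, add_zero, mul_zero, add_zero])) }
  have hsqE : ∀ e : ↥E, e * e ∈ ι.range := by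
    rintro ⟨⟨x, g⟩, v, hv⟩
    change g = typeAElt φ (a x) v at hv
    subst hv
    obtain ⟨h, e⟩ := hsq x
    refine ⟨⟨x * x, h⟩, Subtype.ext (Prod.ext rfl ?_)⟩
    show typeAElt φ 0 (b _) = typeAElt φ (a x) v * typeAElt φ (a x) v
    rw [typeAElt_mul, e, CharTwo.add_self_eq_zero, CharTwo.add_self_eq_zero, zero_add]
  let K : Subgroup ↥E := ((MonoidHom.fst P (GL (Fin 3) F)).comp E.subtype).ker
  have hK : ∀ e : ↥E, e ∈ K ↔ e.1.1 = 1 := fun e => Iff.rfl
  obtain ⟨C, ⟨hDC, hCK⟩, hmax⟩ := (Set.toFinite {C : Subgroup ↥E | ι.range ≤ C ∧ ∀ e ∈ C, e ∈ K → e = 1}).exists_maximal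
    ⟨ι.range, le_rfl, by
      rintro _ ⟨z, rfl⟩ hz
      have : z = 1 := Subtype.ext ((hK _).1 hz)
      rw [this, map_one]⟩
  have hsqC : ∀ e : ↥E, e * e ∈ C := fun e => hDC (hsqE e)
  haveI : C.Normal := ⟨fun c hc g => by
    rw [show g * c * g⁻¹ = g * c * (g * c) * c⁻¹ * (g⁻¹ * g⁻¹) by group]
    exact mul_mem (mul_mem (hsqC _) (inv_mem hc)) (hsqC _)⟩
  have htop : ∀ e : ↥E, e ∈ C ⊔ K := by
    intro e
    by_contra he
    have hle : C ≤ C ⊔ Subgroup.zpowers e := le_sup_left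
    have hmem : e ∈ C ⊔ Subgroup.zpowers e := Subgroup.mem_sup_right (Subgroup.mem_zpowers e)
    refine he (Subgroup.mem_sup_left (hmax ⟨hDC.trans hle, ?_⟩ hle hmem))
    intro x hx hxK
    obtain ⟨c, hc, y, hy, rfl⟩ := Subgroup.mem_sup_of_normal_left.1 hx
    obtain ⟨i, rfl⟩ := Subgroup.mem_zpowers_iff.1 hy
    obtain ⟨m, rfl | rfl⟩ := Int.even_or_odd' i
    · refine hCK _ (mul_mem hc ?_) hxK
      rw [zpow_mul, show (e ^ (2 : ℤ)) = e * e from zpow_two e]
      exact zpow_mem (hsqC e) m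
    · exfalso
      have hem : (e * e) ^ m ∈ C := zpow_mem (hsqC e) m
      have h' : e ^ (2 * m + 1) = (e * e) ^ m * e := by
        rw [zpow_add_one, zpow_mul, zpow_two]
      rw [h', ← mul_assoc] at hxK
      apply he
      have := mul_mem (Subgroup.mem_sup_left (T := K) (inv_mem (mul_mem hc hem)))
        (Subgroup.mem_sup_right (S := C) hxK)
      rwa [inv_mul_cancel_left] at this
  let π : ↥C →* P := (MonoidHom.fst P (GL (Fin 3) F)).comp (E.subtype.comp C.subtype)
  have hπ : Function.Bijective π := by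
    refine ⟨(injective_iff_map_eq_one π).2 fun c hc => Subtype.ext (hCK _ c.2 hc), fun x => ?_⟩
    have hx : ((x, typeAElt φ (a x) 0) : P × GL (Fin 3) F) ∈ E := ⟨0, rfl⟩
    obtain ⟨c, hc, k, hk, e⟩ := Subgroup.mem_sup_of_normal_left.1 (htop ⟨_, hx⟩)
    refine ⟨⟨c, hc⟩, ?_⟩
    have e' : c.1.1 * k.1.1 = x := congrArg (fun t : ↥E => t.1.1) e
    rwa [(hK k).1 hk, mul_one] at e'
  let σ := MulEquiv.ofBijective π hπ
  let f : P →* GL (Fin 3) F :=
    (MonoidHom.snd P (GL (Fin 3) F)).comp ((E.subtype.comp C.subtype).comp σ.symm.toMonoidHom)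
  have hfst : ∀ x, ((σ.symm x : ↥E) : P × GL (Fin 3) F).1 = x := fun x => σ.apply_symm_apply x
  have hf : ∀ x, ∃ v, f x = typeAElt φ (a x) v := fun x => by
    obtain ⟨v, hv⟩ := (σ.symm x : ↥E).2
    exact ⟨v, by rw [← congrArg a (hfst x)]; exact hv⟩
  have hfz : ∀ z : ↥(Subgroup.center P), f z = typeAElt φ 0 (b z) := fun z => by
    have : σ.symm (z : P) = ⟨ι z, hDC ⟨z, rfl⟩⟩ := by rw [MulEquiv.symm_apply_eq]; rfl
    show ((σ.symm (z : P) : ↥E) : P × GL (Fin 3) F).2 = _
    rw [this]; rfl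
  have hinj : Function.Injective f := (injective_iff_map_eq_one f).2 fun x hx => by
    obtain ⟨v, hv⟩ := hf x
    rw [hx, ← typeAElt_one φ] at hv
    obtain ⟨h0, -⟩ := typeAElt_inj φ hv
    have hz := hfz ⟨x, (hker x).1 h0.symm⟩
    simp only [hx] at hz
    rw [← typeAElt_one φ] at hz
    have h := (typeAElt_inj φ hz).2
    exact congrArg Subtype.val (hb.1 (h.symm.trans b1.symm))
  have hrange : f.range = Cfsg.suzukiTypeA F φ := by
    ext g
    rw [mem_suzukiTypeA]
    constructor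
    · rintro ⟨x, rfl⟩
      obtain ⟨v, hv⟩ := hf x
      exact ⟨_, _, hv⟩
    · rintro ⟨u, v, rfl⟩
      obtain ⟨x, rfl⟩ := hsurj u
      obtain ⟨w, hw⟩ := hf x
      obtain ⟨z, hz⟩ := hb.2 (v - w)
      refine ⟨x * z, ?_⟩
      rw [map_mul, hw, hfz, typeAElt_mul, hz]
      congr 1 <;> ring
  exact ⟨(MonoidHom.ofInjective hinj).trans (MulEquiv.subgroupCongr hrange)⟩

/-! ### automorphisms of odd order -/

theorem exists_fixed_sq {F : Type*} [Field F] [Finite F] (φ : F ≃+* F) (h : ¬ Odd (orderOf φ)) :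
    ∃ w : F, w ≠ 1 ∧ φ w * w = 1 := by
  classical
  by_contra hne
  push Not at hne
  have hfix : ∀ x : F, φ (φ x) = x → φ x = x := by
    intro x hx
    rcases eq_or_ne x 0 with rfl | hx0
    · exact map_zero φ
    have hpx : φ x ≠ 0 := (map_ne_zero φ).2 hx0
    by_contra hne'
    refine hne (x / φ x) (fun e => hne' ?_) ?_
    · rw [div_eq_one_iff_eq hpx] at e; exact e.symm
    · rw [map_div₀, hx]; field_simp
  have : Finite (F ≃+* F) := Finite.of_injective (fun σ => (σ : F → F)) DFunLike.coe_injective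
  have hev : Even (orderOf φ) := Nat.not_odd_iff_even.1 h
  have := Fintype.ofFinite ↥(Subgroup.zpowers φ)
  have := Fintype.ofFinite ↥(Subgroup.zpowers (φ * φ))
  have heq : FixedPoints.subfield ↥(Subgroup.zpowers (φ * φ)) F =
      FixedPoints.subfield ↥(Subgroup.zpowers φ) F := by
    ext x
    constructor
    · intro hx
      have h1 : φ (φ x) = x := hx ⟨φ * φ, Subgroup.mem_zpowers _⟩
      rintro ⟨g, hg⟩
      show g • x = x
      have : g ∈ MulAction.stabilizer (F ≃+* F) x :=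
        Subgroup.zpowers_le.2 (show φ • x = x from hfix x h1) hg
      exact this
    · intro hx g
      exact hx ⟨g.1, Subgroup.zpowers_le.2 (mul_mem (Subgroup.mem_zpowers φ) (Subgroup.mem_zpowers φ)) g.2⟩
  have h1 := FixedPoints.finrank_eq_card ↥(Subgroup.zpowers φ) F
  have h2 := FixedPoints.finrank_eq_card ↥(Subgroup.zpowers (φ * φ)) F
  rw [heq, h1, ← Nat.card_eq_fintype_card, ← Nat.card_eq_fintype_card, Nat.card_zpowers,
    Nat.card_zpowers, ← pow_two, orderOf_pow' _ two_ne_zero, Nat.gcd_comm,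
    Nat.gcd_eq_left (even_iff_two_dvd.1 hev)] at h2
  have := orderOf_pos φ
  omega

/-! ### the main theorem -/

/-- a semi-invariant quadratic map is a multiple of a product of two automorphisms -/
theorem exists_monomial {F : Type*} [Field F] [Finite F] [CharP F 2] {c d : F}
    (hc : ∀ x : F, x ≠ 0 → ∃ j : ℕ, x = c ^ j) (S : F → F)
    (hq : ∀ x y z : F, S (x + y + z) + S (x + y) + S (x + z) + S (y + z) + S x + S y + S z = 0)
    (hS : ∀ x, S (c * x) = d * S x) (h1 : S 1 ≠ 0) :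
    ∃ σ τ : F ≃+* F, ∀ x, S x = S 1 * (σ x * τ x) := by
  classical
  have := Fintype.ofFinite F
  obtain ⟨co, hco⟩ := Field.exists_sum_aut_quadratic S hq
  have hpow : ∀ j : ℕ, S (c ^ j) = d ^ j * S 1 := by
    intro j
    induction j with
    | zero => simp
    | succ j ih => rw [pow_succ', hS, ih, pow_succ', mul_assoc]
  obtain ⟨p, hp⟩ : ∃ p : (F ≃+* F) × (F ≃+* F), p.1 c * p.2 c = d := by
    by_contra hne
    push Not at hne
    set T := Finset.univ.image fun p : (F ≃+* F) × (F ≃+* F) => p.1 c * p.2 c with hT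
    set Q : Polynomial F := ∏ t ∈ T, (Polynomial.X - Polynomial.C t) with hQ
    have hQd : Q.eval d ≠ 0 := by
      rw [hQ, Polynomial.eval_prod, Finset.prod_ne_zero_iff]
      intro t ht
      obtain ⟨p, -, rfl⟩ := Finset.mem_image.1 ht
      simpa [sub_eq_zero] using fun e => hne p e.symm
    have hQp : ∀ p : (F ≃+* F) × (F ≃+* F), Q.eval (p.1 c * p.2 c) = 0 := fun p => by
      rw [hQ, Polynomial.eval_prod]
      exact Finset.prod_eq_zero (Finset.mem_image.2 ⟨p, Finset.mem_univ _, rfl⟩) (by simp)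
    refine mul_ne_zero hQd h1 ?_
    calc Q.eval d * S 1 = ∑ i ∈ Finset.range (Q.natDegree + 1), Q.coeff i * S (c ^ i) := by
          simp only [hpow, Polynomial.eval_eq_sum_range, Finset.sum_mul, mul_assoc]
      _ = ∑ p, co p * Q.eval (p.1 c * p.2 c) := by
          simp only [hco, Polynomial.eval_eq_sum_range, Finset.mul_sum, map_pow, mul_pow]
          rw [Finset.sum_comm]
          exact Finset.sum_congr rfl fun p _ => Finset.sum_congr rfl fun i _ => by ring
      _ = 0 := by simp [hQp]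
  refine ⟨p.1, p.2, fun x => ?_⟩
  rcases eq_or_ne x 0 with rfl | hx
  · rw [map_zero, map_zero, mul_zero, mul_zero, hco]
    simp
  · obtain ⟨j, rfl⟩ := hc x hx
    rw [hpow, map_pow, map_pow, ← mul_pow, hp, mul_comm]

universe u

theorem typeA_of_card {P : Type u} [Group P] [Finite P] (hP : IsPGroup 2 P)
    (hna : ∃ x y : P, x * y ≠ y * x) (k : MulAut P) (hk : Trans k)
    (hcard : Nat.card P = Nat.card (Subgroup.center P) ^ 2) :
    ∃ (F : Type) (_ : Field F) (_ : Fintype F) (φ : F ≃+* F),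
      Fintype.card F = Nat.card (Subgroup.center P) ∧ φ ≠ RingEquiv.refl F ∧ Odd (orderOf φ) ∧
        Nonempty (P ≃* Cfsg.suzukiTypeA F (φ : F →+* F)) := by
  classical
  have := Fact.mk Nat.prime_two
  obtain ⟨x₀, y₀, hxy⟩ := hna
  have : Nontrivial P := ⟨x₀ * y₀, y₀ * x₀, hxy⟩
  set Z := Subgroup.center P with hZdef
  have hZmem : ∀ {z : P}, z ∈ Z → ∀ g : P, g * z = z * g := fun hz => Subgroup.mem_center_iff.1 hz
  have hZc : ∀ z ∈ Z, z * z = 1 := center_elementary (Nat.card P) P le_rfl hP ⟨x₀, y₀, hxy⟩ k hk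
  have hinv : ∀ {x : P}, x * x = 1 → x ∈ Z := fun h => invol_central hP k hk h
  have := hP.center_nontrivial
  have hkZ : ∀ {x : P}, x ∈ Z → k x ∈ Z := fun {x} hx => Subgroup.mem_center_iff.2 fun y => by
    obtain ⟨y, rfl⟩ := k.surjective y
    rw [← map_mul, ← map_mul, hZmem hx y]
  -- the second centre is everything
  let W : Subgroup P :=
    { carrier := {y | y * y ∈ Z ∧ ∀ x, cm y x ∈ Z}
      one_mem' := ⟨by simp, fun x => by simp [cm]⟩
      mul_mem' := by
        rintro a b ⟨ha, ha'⟩ ⟨hb, hb'⟩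
        refine ⟨?_, fun x => ?_⟩
        · rw [sq_mul (hb' a)]
          exact mul_mem (mul_mem ha hb) (hb' a)
        · rw [cm_mul_left (ha' x)]
          exact mul_mem (ha' x) (hb' x)
      inv_mem' := by
        rintro a ⟨ha, ha'⟩
        refine ⟨by rw [← mul_inv_rev]; exact inv_mem ha, fun x => ?_⟩
        have h : cm a x * cm a⁻¹ x = 1 := by
          rw [← cm_mul_left (ha' x), mul_inv_cancel]; simp [cm]
        rw [eq_inv_of_mul_eq_one_right h]
        exact inv_mem (ha' x) }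
  have hkW : ∀ y ∈ W, k y ∈ W := fun y hy => ⟨by rw [← map_mul]; exact hkZ hy.1, fun x => by
    obtain ⟨x, rfl⟩ := k.surjective x
    rw [← map_cm]; exact hkZ (hy.2 x)⟩
  have hkWi : ∀ (i : ℕ), ∀ y ∈ W, (k ^ i) y ∈ W := by
    intro i
    induction i with
    | zero => intro y hy; exact hy
    | succ i ih => intro y hy; rw [pow_apply_succ]; exact hkW _ (ih y hy)
  obtain ⟨y₁, hy₁W, hy₁⟩ : ∃ y ∈ W, y * y ≠ 1 := by
    obtain ⟨t, ht⟩ : ∃ t : P ⧸ Z, t ≠ 1 := by
      obtain ⟨g, hg⟩ : ∃ g, g ∉ Z := ⟨x₀, fun h => hxy (hZmem h y₀).symm⟩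
      exact ⟨QuotientGroup.mk g, fun h => hg ((QuotientGroup.eq_one_iff g).1 h)⟩
    have : Nontrivial (P ⧸ Z) := ⟨t, 1, ht⟩
    have := (hP.to_quotient Z).center_nontrivial
    obtain ⟨g, hg⟩ := exists_prime_orderOf_dvd_card' (G := ↥(Subgroup.center (P ⧸ Z))) 2 (by
      obtain ⟨j, hj⟩ := IsPGroup.iff_card.1 ((hP.to_quotient Z).to_subgroup (Subgroup.center (P ⧸ Z)))
      rw [hj]
      refine dvd_pow_self 2 ?_
      rintro rfl
      have := Finite.one_lt_card (α := ↥(Subgroup.center (P ⧸ Z)))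
      omega)
    obtain ⟨y, hy⟩ := QuotientGroup.mk_surjective (g : P ⧸ Z)
    have h2 : g * g = 1 := by rw [← pow_two, ← hg, pow_orderOf_eq_one]
    refine ⟨y, ⟨?_, fun x => ?_⟩, fun h => ?_⟩
    · rw [← QuotientGroup.eq_one_iff, QuotientGroup.mk_mul, hy]
      exact congrArg Subtype.val h2
    · rw [← QuotientGroup.eq_one_iff]
      show QuotientGroup.mk' Z (cm y x) = 1
      rw [map_cm, cm_eq_one_iff, QuotientGroup.mk'_apply, QuotientGroup.mk'_apply, hy]
      exact (Subgroup.mem_center_iff.1 g.2 _).symm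
    · have : (g : P ⧸ Z) = 1 := hy.symm.trans ((QuotientGroup.eq_one_iff y).2 (hinv h))
      rw [show g = 1 from Subtype.ext this, orderOf_one] at hg
      omega
  have hroot : ∀ z ∈ Z, ∃ y ∈ W, y * y = z := by
    intro z hz
    rcases eq_or_ne z 1 with rfl | hz1
    · exact ⟨1, one_mem _, one_mul 1⟩
    · obtain ⟨i, hi⟩ := hk (y₁ * y₁) z hy₁ (hZc _ hy₁W.1) hz1 (hZc z hz)
      exact ⟨(k ^ i) y₁, hkWi i _ hy₁W, by rw [← map_mul]; exact hi⟩
  have hW : W = ⊤ := by
    have hle : Z ≤ W := fun z hz => ⟨by rw [hZc z hz]; exact one_mem _, fun x => by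
      rw [(cm_eq_one_iff z x).2 (hZmem hz x).symm]; exact one_mem _⟩
    refine Subgroup.eq_top_of_le_card W ?_
    rw [hcard, pow_two]
    choose r hrW hr using hroot
    refine le_of_eq_of_le (Nat.card_prod _ _).symm
      (Nat.card_le_card_of_injective (fun p : ↥Z × ↥Z => (⟨r p.1 p.1.2 * p.2,
        mul_mem (hrW _ _) (hle p.2.2)⟩ : ↥W)) ?_)
    rintro ⟨⟨z, hz⟩, w⟩ ⟨⟨z', hz'⟩, w'⟩ e
    have e' : r z hz * w = r z' hz' * w' := congrArg Subtype.val e
    have sqz : ∀ (t : P) (v : ↥Z), t * v * (t * v) = t * t := fun t v => by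
      rw [mul_assoc t, ← mul_assoc (v : P), ← hZmem v.2 t, mul_assoc t (v : P), hZc _ v.2, mul_one]
    have hzz : z = z' := by
      calc z = r z hz * w * (r z hz * w) := by rw [sqz, hr]
        _ = r z' hz' * w' * (r z' hz' * w') := by rw [e']
        _ = z' := by rw [sqz, hr]
    subst hzz
    rw [Subtype.ext (mul_left_cancel e')]
  have hsqZ : ∀ x : P, x * x ∈ Z := fun x => (show x ∈ W by rw [hW]; trivial).1
  have hcmZ : ∀ x y : P, cm x y ∈ Z := fun x => (show x ∈ W by rw [hW]; trivial).2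
  -- squaring classifies the cosets
  have hindex : Nat.card (P ⧸ Z) = Nat.card ↥Z := by
    have h := Subgroup.card_eq_card_quotient_mul_card_subgroup Z
    rw [hcard, pow_two] at h
    exact (Nat.eq_of_mul_eq_mul_right Nat.card_pos h).symm
  let Q : P ⧸ Z → ↥Z := Quotient.lift (fun x => (⟨x * x, hsqZ x⟩ : ↥Z)) fun x y h => by
    have hm : x⁻¹ * y ∈ Z := QuotientGroup.leftRel_apply.1 h
    refine Subtype.ext ?_
    show x * x = y * y
    conv_rhs => rw [← mul_inv_cancel_left x y, sq_mul (hcmZ _ _),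
      hZc _ hm, mul_one, (cm_eq_one_iff _ _).2 (hZmem hm x).symm, mul_one]
  have hQ : Function.Bijective Q := by
    have := Fintype.ofFinite (P ⧸ Z)
    have := Fintype.ofFinite ↥Z
    rw [Fintype.bijective_iff_surjective_and_card, ← Nat.card_eq_fintype_card, ← Nat.card_eq_fintype_card]
    refine ⟨fun z => ?_, hindex⟩
    obtain ⟨y, -, hy⟩ := hroot z z.2
    exact ⟨QuotientGroup.mk y, Subtype.ext hy⟩
  have hsqinj : ∀ {x y : P}, x * x = y * y → (QuotientGroup.mk x : P ⧸ Z) = QuotientGroup.mk y :=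
    fun {x y} h => hQ.1 (Subtype.ext h)
  -- coordinates
  letI : CommGroup (P ⧸ Z) :=
    { (inferInstance : Group (P ⧸ Z)) with
      mul_comm := fun s t => by
        induction s using QuotientGroup.induction_on with
        | H x =>
          induction t using QuotientGroup.induction_on with
          | H y =>
            rw [← QuotientGroup.mk_mul, ← QuotientGroup.mk_mul, mul_eq_mul_cm x y, QuotientGroup.mk_mul,
              (QuotientGroup.eq_one_iff _).2 (hcmZ x y), mul_one] }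
  letI : CommGroup ↥Z :=
    { (inferInstance : Group ↥Z) with mul_comm := fun s t => Subtype.ext (hZmem t.2 s) }
  have : Nontrivial (P ⧸ Z) := by
    refine ⟨QuotientGroup.mk x₀, 1, fun h => ?_⟩
    exact hxy (hZmem ((QuotientGroup.eq_one_iff x₀).1 h) y₀).symm
  have hmap : Z.map k.toMonoidHom = Z := Subgroup.characteristic_iff_map_eq.1 inferInstance k
  let kq : MulAut (P ⧸ Z) := QuotientGroup.congr Z Z k hmap
  have hkq : ∀ x : P, kq (QuotientGroup.mk x) = QuotientGroup.mk (k x) := fun x => rfl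
  have hkqi : ∀ (i : ℕ) (x : P), (kq ^ i) (QuotientGroup.mk x) = QuotientGroup.mk ((k ^ i) x) := by
    intro i
    induction i with
    | zero => intro x; rfl
    | succ i ih => intro x; rw [pow_apply_succ, pow_apply_succ, ih, hkq]
  have hTq : Trans kq := by
    intro s t hs _ ht _
    induction s using QuotientGroup.induction_on with
    | H x =>
      induction t using QuotientGroup.induction_on with
      | H y =>
        have hx : x * x ≠ 1 := fun h => hs ((QuotientGroup.eq_one_iff x).2 (hinv h))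
        have hy : y * y ≠ 1 := fun h => ht ((QuotientGroup.eq_one_iff y).2 (hinv h))
        obtain ⟨i, hi⟩ := hk (x * x) (y * y) hx (hZc _ (hsqZ x)) hy (hZc _ (hsqZ y))
        exact ⟨i, by rw [hkqi]; exact hsqinj (by rw [← map_mul, hi])⟩
  have hqexp : ∀ t : P ⧸ Z, t * t = 1 := fun t => by
    induction t using QuotientGroup.induction_on with
    | H x => rw [← QuotientGroup.mk_mul]; exact (QuotientGroup.eq_one_iff _).2 (hsqZ x)
  obtain ⟨n, i, c, hn, hi, hiadd, hik, hc⟩ := exists_coord hqexp kq hTq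
  obtain ⟨kz, hkz⟩ := exists_restrict k Z (fun x hx => hkZ hx)
  have hTz : Trans kz := by
    intro s t hs hs' ht ht'
    obtain ⟨j, hj⟩ := hk s t (fun h => hs (Subtype.ext h)) (congrArg Subtype.val hs')
      (fun h => ht (Subtype.ext h)) (congrArg Subtype.val ht')
    exact ⟨j, Subtype.ext (by rw [hkz, hj])⟩
  obtain ⟨m, j, d, hm, hj, hjadd, hjk, -⟩ := exists_coord (fun z : ↥Z => Subtype.ext (hZc _ z.2)) kz hTz
  obtain rfl : n = m := by
    have h1 := Nat.card_eq_of_bijective i hi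
    have h2 := Nat.card_eq_of_bijective j hj
    rw [GaloisField.card 2 n hn] at h1
    rw [GaloisField.card 2 m hm] at h2
    exact Nat.pow_right_injective le_rfl (h1.symm.trans (hindex.trans h2))
  -- the squaring map in coordinates
  let a : P → GaloisField 2 n := fun x => i (QuotientGroup.mk x)
  have hadd : ∀ x y, a (x * y) = a x + a y := fun x y => hiadd (QuotientGroup.mk x) (QuotientGroup.mk y)
  have hi1 : i 1 = 0 := by simpa using hiadd 1 1
  have hj1 : j 1 = 0 := by simpa using hjadd 1 1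
  have hker : ∀ x, a x = 0 ↔ x ∈ Z := fun x =>
    ⟨fun h => (QuotientGroup.eq_one_iff x).1 (hi.1 (h.trans hi1.symm)),
      fun h => (congrArg i ((QuotientGroup.eq_one_iff x).2 h)).trans hi1⟩
  have hsurj : Function.Surjective a := fun v => by
    obtain ⟨t, rfl⟩ := hi.2 v
    obtain ⟨x, rfl⟩ := QuotientGroup.mk_surjective t
    exact ⟨x, rfl⟩
  let S : GaloisField 2 n → GaloisField 2 n := fun v => j (Q ((Equiv.ofBijective i hi).symm v))
  have hSa : ∀ x, S (a x) = j ⟨x * x, hsqZ x⟩ := fun x => by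
    show j (Q ((Equiv.ofBijective i hi).symm (i _))) = _
    rw [Equiv.ofBijective_symm_apply_apply]; rfl
  have hSmul : ∀ x y, S (a (x * y)) = S (a x) + S (a y) + j ⟨cm y x, hcmZ y x⟩ := fun x y => by
    rw [hSa, hSa, hSa, ← hjadd, ← hjadd]
    exact congrArg j (Subtype.ext (sq_mul (hcmZ y x)))
  have hq : ∀ u v w, S (u + v + w) + S (u + v) + S (u + w) + S (v + w) + S u + S v + S w = 0 := by
    intro u v w
    obtain ⟨x, rfl⟩ := hsurj u
    obtain ⟨y, rfl⟩ := hsurj v
    obtain ⟨z, rfl⟩ := hsurj w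
    rw [← hadd, ← hadd, ← hadd, ← hadd, hSmul (x * y) z, hSmul x y, hSmul x z, hSmul y z]
    have e : j ⟨cm z (x * y), hcmZ z (x * y)⟩ = j ⟨cm z y, hcmZ z y⟩ + j ⟨cm z x, hcmZ z x⟩ := by
      rw [← hjadd]; exact congrArg j (Subtype.ext (cm_mul_right (hcmZ z x)))
    rw [e]
    linear_combination (2 * S (a x) + 2 * S (a y) + 2 * S (a z) + j ⟨cm y x, hcmZ y x⟩ +
      j ⟨cm z x, hcmZ z x⟩ + j ⟨cm z y, hcmZ z y⟩) * CharTwo.two_eq_zero (R := GaloisField 2 n)
  have hSk : ∀ u, S (c * u) = d * S u := by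
    intro u
    obtain ⟨x, rfl⟩ := hsurj u
    rw [show c * a x = a (k x) from (hik _).symm, hSa, hSa, ← hjk]
    refine congrArg j (Subtype.ext ?_)
    have := hkz 1 ⟨x * x, hsqZ x⟩
    rw [pow_one, pow_one] at this
    rw [this, map_mul]
  have hS0 : ∀ u, S u = 0 → u = 0 := by
    intro u hu
    obtain ⟨x, rfl⟩ := hsurj u
    rw [hSa] at hu
    exact (hker x).2 (hinv (congrArg Subtype.val (hj.1 (hu.trans hj1.symm))))
  have h1 : S 1 ≠ 0 := fun h => one_ne_zero (hS0 1 h)
  obtain ⟨σ, τ, hστ⟩ := exists_monomial hc S hq hSk h1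
  set φ := τ.trans σ.symm with hφ
  let b : ↥Z → GaloisField 2 n := fun z => σ.symm (j z * (S 1)⁻¹)
  have hbS : ∀ x, b ⟨x * x, hsqZ x⟩ = φ (a x) * a x := fun x => by
    show σ.symm (j ⟨x * x, hsqZ x⟩ * (S 1)⁻¹) = σ.symm (τ (a x)) * a x
    rw [← hSa, hστ, mul_comm (S 1), mul_assoc, mul_inv_cancel₀ h1, mul_one, map_mul,
      RingEquiv.symm_apply_apply, mul_comm]
  have hbij : Function.Bijective b :=
    σ.symm.bijective.comp ((Equiv.mulRight₀ (S 1)⁻¹ (inv_ne_zero h1)).bijective.comp hj)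
  have hbadd : ∀ z w, b (z * w) = b z + b w := fun z w => by
    show σ.symm (j (z * w) * _) = σ.symm (j z * _) + σ.symm (j w * _)
    rw [hjadd, add_mul, map_add]
  have := Fintype.ofFinite (GaloisField 2 n)
  refine ⟨GaloisField 2 n, inferInstance, inferInstance, φ, ?_, ?_, ?_,
    nonempty_iso_typeA (φ : GaloisField 2 n →+* GaloisField 2 n) a b hadd hsurj hker hbij hbadd
      (fun x => ⟨hsqZ x, hbS x⟩)⟩
  · rw [← Nat.card_eq_fintype_card, ← Nat.card_eq_of_bijective j hj]
  · intro h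
    apply hxy
    have hb1 : ∀ x, b ⟨x * x, hsqZ x⟩ = a x * a x := fun x => by rw [hbS, h]; rfl
    have e := hb1 (y₀ * x₀)
    rw [hadd] at e
    have e' : (⟨y₀ * x₀ * (y₀ * x₀), hsqZ _⟩ : ↥Z) =
        ⟨y₀ * y₀, hsqZ _⟩ * ⟨x₀ * x₀, hsqZ _⟩ * ⟨cm x₀ y₀, hcmZ _ _⟩ :=
      Subtype.ext (sq_mul (hcmZ x₀ y₀))
    rw [e', hbadd, hbadd, hb1, hb1] at e
    have h0 : b ⟨cm x₀ y₀, hcmZ _ _⟩ = b 1 := by
      have : b 1 = 0 := by simpa using hbadd 1 1
      rw [this]
      linear_combination e + a y₀ * a x₀ * CharTwo.two_eq_zero (R := GaloisField 2 n)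
    exact (cm_eq_one_iff x₀ y₀).1 (congrArg Subtype.val (hbij.1 h0))
  · by_contra h
    obtain ⟨w, hw, hw'⟩ := exists_fixed_sq φ h
    obtain ⟨x, rfl⟩ := hsurj w
    obtain ⟨y, hy⟩ := hsurj 1
    have e := hbij.1 ((hbS x).trans (hw'.trans (by rw [hbS, hy, map_one, one_mul] :
      (1 : GaloisField 2 n) = b ⟨y * y, hsqZ y⟩)))
    exact hw ((congrArg i (hsqinj (congrArg Subtype.val e))).trans hy)

end CfsgLib.Chev.Suz2
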