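/-
Zassenhaus groups whose kernel is a non-abelian 2-group: first facts.
-/
import Cfsg.Agent.Lib.Perm.ZassG.Counting
import Cfsg.Agent.Lib.Chev.Suz2.Card

set_option autoImplicit false

open MulAction
open CfsgLib.Perm.ZassG

namespace CfsgLib.Chev.Suz2

variable {G Ω : Type*} [Group G] [MulAction G Ω]

/-- the standing hypotheses -/
structure Ctx (G : Type*) {Ω : Type*} [Group G] [MulAction G Ω] (a b : Ω) (F : Subgroup G) : Prop where
  zass : Cfsg.IsZassenhausGroup G Ω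
  ne : a ≠ b
  inv : Inverted G a b
  ker : IsKernel a F
  pgroup : IsPGroup 2 F
  nonab : ∃ u v : F, u * v ≠ v * u

/-- the involutions fixing `c`, with `1` -/
def fixInv (G : Type*) {Ω : Type*} [Group G] [MulAction G Ω] (c : Ω) : Set G :=
  {z | z * z = 1 ∧ z • c = c}

/-- a triangle: `(z * t) ^ 3 = 1` -/
def Tri (c : Ω) (t : G) : Prop :=
  ∃ z : G, z ≠ 1 ∧ z ∈ fixInv G c ∧ t * z * t = z * t * z

lemma conj_mem_fixInv {g z : G} {c : Ω} (hz : z ∈ fixInv G c) : g * z * g⁻¹ ∈ fixInv G (g • c) :=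
  ⟨by rw [show g * z * g⁻¹ * (g * z * g⁻¹) = g * (z * z) * g⁻¹ by group, hz.1, mul_one, mul_inv_cancel],
    by rw [mul_smul, mul_smul, inv_smul_smul, hz.2]⟩

lemma invol_swap {t : G} (ht : t * t = 1) (c : Ω) : t • (t • c) = c := by
  rw [← mul_smul, ht, one_smul]

namespace Ctx

variable {a b : Ω} {F : Subgroup G} [Finite G] [Finite Ω]

omit [Finite G] in
lemma card_points (hC : Ctx G a b F) : Nat.card Ω = Nat.card F + 1 :=
  (hC.ker.card_add_one hC.ne).symm

lemma even_card (hC : Ctx G a b F) : 2 ∣ Nat.card F := by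
  haveI := Fact.mk Nat.prime_two
  obtain ⟨j, hj⟩ := IsPGroup.iff_card.1 hC.pgroup
  refine hj ▸ dvd_pow_self 2 ?_
  rintro rfl
  obtain ⟨u, v, huv⟩ := hC.nonab
  obtain ⟨h, -⟩ := Nat.card_eq_one_iff_unique.1 (by simpa using hj : Nat.card F = 1)
  exact huv (Subsingleton.elim _ _)

lemma odd_points (hC : Ctx G a b F) : Odd (Nat.card Ω) := by
  rw [hC.card_points]
  exact (even_iff_two_dvd.2 hC.even_card).add_one

lemma exists_other (hC : Ctx G a b F) (c : Ω) : ∃ d, c ≠ d := by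
  rcases eq_or_ne c a with rfl | h
  exacts [⟨b, hC.ne⟩, ⟨a, h⟩]

lemma invol_of_swap (hC : Ctx G a b F) {t : G} {c d : Ω} (hcd : c ≠ d) (h1 : t • c = d) (h2 : t • d = c) :
    t ≠ 1 ∧ t * t = 1 :=
  (hC.inv.transport hC.zass hC.ne hcd).swap_invol hC.zass hcd h1 h2

lemma swap_inv (hC : Ctx G a b F) {t : G} {c d : Ω} (hcd : c ≠ d) (h1 : t • c = d) (h2 : t • d = c)
    {h : G} (hh : h ∈ pairStab G c d) : t * h * t = h⁻¹ := by
  have := (hC.inv.transport hC.zass hC.ne hcd).inv t h1 h2 h hh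
  rwa [inv_eq_of_mul_eq_one_left (hC.invol_of_swap hcd h1 h2).2] at this

lemma pairStab_comm' (hC : Ctx G a b F) {c d : Ω} (hcd : c ≠ d) {h k : G} (hh : h ∈ pairStab G c d)
    (hk : k ∈ pairStab G c d) : h * k = k * h := by
  obtain ⟨t, h1, h2⟩ := exists_swap hC.zass hcd
  have ht := (hC.invol_of_swap hcd h1 h2).2
  have e := hC.swap_inv hcd h1 h2 (mul_mem hh hk)
  rw [show t * (h * k) * t = (t * h * t) * (t * k * t) by
    simp [mul_assoc, ← mul_assoc t t, ht], hC.swap_inv hcd h1 h2 hh, hC.swap_inv hcd h1 h2 hk,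
    ← mul_inv_rev, inv_inj] at e
  exact e.symm

lemma card_pairStab (hC : Ctx G a b F) {c d : Ω} (hcd : c ≠ d) :
    Nat.card (pairStab G c d) = Nat.card (pairStab G a b) := by
  obtain ⟨g, hga, hgb⟩ := exists_move hC.zass a b c d hC.ne hcd
  have hga' : g⁻¹ • c = a := inv_smul_eq_iff.2 hga.symm
  have hgb' : g⁻¹ • d = b := inv_smul_eq_iff.2 hgb.symm
  exact Nat.card_congr
    { toFun := fun x => ⟨g⁻¹ * x * g⁻¹⁻¹, conj_mem_pairStab hC.zass hga' hgb' x.2⟩
      invFun := fun x => ⟨g * x * g⁻¹, conj_mem_pairStab hC.zass hga hgb x.2⟩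
      left_inv := fun x => Subtype.ext (by simp [mul_assoc])
      right_inv := fun x => Subtype.ext (by simp [mul_assoc]) }

lemma exists_sqrt (hC : Ctx G a b F) {c d : Ω} (hcd : c ≠ d) {k : G} (hk : k ∈ pairStab G c d) :
    ∃ h ∈ pairStab G c d, h * h = k := by
  obtain ⟨r, hr⟩ := (hC.inv.transport hC.zass hC.ne hcd).odd
  refine ⟨k ^ (r + 1), pow_mem hk _, ?_⟩
  have := congrArg Subtype.val (pow_card_eq_one' (x := (⟨k, hk⟩ : pairStab G c d)))
  rw [SubgroupClass.coe_pow, OneMemClass.coe_one] at this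
  rw [← pow_add, show r + 1 + (r + 1) = Nat.card (pairStab G c d) + 1 by omega, pow_succ, this, one_mul]

lemma eq_one_of_sq (hC : Ctx G a b F) {c d : Ω} (hcd : c ≠ d) {k : G} (hk : k ∈ pairStab G c d)
    (h : k * k = 1) : k = 1 := by
  rw [← orderOf_eq_one_iff]
  exact Nat.eq_one_of_dvd_coprimes (Nat.coprime_two_left.2 (hC.inv.transport hC.zass hC.ne hcd).odd)
    (orderOf_dvd_of_pow_eq_one (by rw [pow_two]; exact h)) ((pairStab G c d).orderOf_dvd_natCard hk)

lemma fixInv_unique (hC : Ctx G a b F) {z : G} (hz1 : z ≠ 1) (hz : z * z = 1) {c d : Ω}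
    (hc : z • c = c) (hd : z • d = d) : c = d :=
  by_contra fun h => hC.inv.not_fix_two hC.zass hC.ne ⟨z, hz1, hz⟩ h hc hd

lemma exists_fixed (hC : Ctx G a b F) {z : G} (hz1 : z ≠ 1) (hz : z * z = 1) : ∃ c : Ω, z • c = c := by
  have h := hC.inv.card_fixed hC.zass hC.ne ⟨z, hz1, hz⟩
  rw [Nat.odd_iff.1 hC.odd_points] at h
  obtain ⟨⟨c, hc⟩⟩ := (Nat.card_pos_iff.1 (h.symm ▸ Nat.one_pos)).1
  exact ⟨c, hc⟩

lemma exists_kernel_mem (hC : Ctx G a b F) (c : Ω) : ∃ K : Subgroup G, IsKernel c K ∧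
    (∀ z ∈ fixInv G c, z ∈ K ∧ ∀ u ∈ K, u * z = z * u) := by
  obtain ⟨d, hcd⟩ := hC.exists_other c
  obtain ⟨K, hK⟩ := exists_kernel hC.zass hcd
  refine ⟨K, hK, fun z hz => ?_⟩
  rcases eq_or_ne z 1 with rfl | hz1
  · exact ⟨one_mem K, fun u _ => by rw [mul_one, one_mul]⟩
  · exact (hC.inv.transport hC.zass hC.ne hcd).invol_central hC.zass hcd hK ⟨z, hz1, hz.1⟩ hz.2

lemma fixInv_mul (hC : Ctx G a b F) {c : Ω} {z w : G} (hz : z ∈ fixInv G c) (hw : w ∈ fixInv G c) :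
    z * w = w * z ∧ z * w ∈ fixInv G c := by
  obtain ⟨K, -, hKz⟩ := hC.exists_kernel_mem c
  have e := (hKz w hw).2 z (hKz z hz).1
  refine ⟨e, ?_, by rw [mul_smul, hw.2, hz.2]⟩
  rw [mul_assoc z, ← mul_assoc w z w, ← e, mul_assoc z w w, hw.1, mul_one, hz.1]

lemma eq_one_of_commute (hC : Ctx G a b F) {c d : Ω} (hcd : c ≠ d) {h z : G} (hh : h ∈ pairStab G c d)
    (hz1 : z ≠ 1) (hz : z ∈ fixInv G c) (e : h * z = z * h) : h = 1 := by
  by_contra hh1
  obtain ⟨K, hK, hKz⟩ := hC.exists_kernel_mem c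
  exact hz1 ((hK.isFPF hC.zass hcd).eq_one_of_commute hh hh1 (hKz z hz).1 e)

lemma card_fixInv (hC : Ctx G a b F) (c : Ω) :
    Nat.card (fixInv G c) = Nat.card (pairStab G a b) + 1 := by
  classical
  have h := hC.inv.card_fix_point hC.zass hC.ne c
  rw [if_pos hC.odd_points] at h
  rw [← h, ← Finite.card_option]
  exact Nat.card_congr
    { toFun := fun z => if hz : (z : G) = 1 then none else some ⟨⟨z, hz, z.2.1⟩, z.2.2⟩
      invFun := fun o => o.elim ⟨1, one_mul 1, one_smul G c⟩ fun z => ⟨z.1.1, z.1.2.2, z.2⟩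
      left_inv := fun z => by
        by_cases hz : (z : G) = 1
        · simp only [hz, dite_true, Option.elim]; exact Subtype.ext hz.symm
        · simp [hz]
      right_inv := fun o => by
        cases o with
        | none => simp
        | some z => simp [z.1.2.1] }

lemma trans_fixInv (hC : Ctx G a b F) {c d : Ω} (hcd : c ≠ d) {z w : G} (hz : z ∈ fixInv G c)
    (hz1 : z ≠ 1) (hw : w ∈ fixInv G c) (hw1 : w ≠ 1) :
    ∃ h ∈ pairStab G c d, h⁻¹ * z * h = w := by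
  classical
  have hc' : Nat.card {t : Invol G // (t : G) • c = c} = Nat.card (pairStab G c d) := by
    rw [hC.inv.card_fix_point hC.zass hC.ne c, if_pos hC.odd_points, hC.card_pairStab hcd]
  let f : pairStab G c d → {t : Invol G // (t : G) • c = c} := fun h =>
    ⟨Invol.conj (h : G)⁻¹ ⟨z, hz1, hz.1⟩, by
      show ((h : G)⁻¹ * z * (h : G)⁻¹⁻¹) • c = c
      rw [inv_inv, mul_smul, mul_smul, h.2.1, hz.2, inv_smul_eq_iff, h.2.1]⟩
  have hf : Function.Injective f := by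
    intro h h' e
    have e' : (h : G)⁻¹ * z * h = (h' : G)⁻¹ * z * h' := by
      simpa [f, Invol.conj] using congrArg (fun t : {t : Invol G // (t : G) • c = c} => ((t.1 : G))) e
    refine Subtype.ext (eq_of_mul_inv_eq_one ?_).symm
    refine hC.eq_one_of_commute hcd (mul_mem h'.2 (inv_mem h.2)) hz1 hz ?_
    have := congrArg (fun u => (h' : G) * u * (h : G)⁻¹) e'
    simpa [mul_assoc] using this
  obtain ⟨⟨h, hh⟩, e⟩ := ((Nat.bijective_iff_injective_and_card f).2 ⟨hf, hc'.symm⟩).2 ⟨⟨w, hw1, hw.1⟩, hw.2⟩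
  exact ⟨h, hh, by simpa [f, Invol.conj] using congrArg (fun t : {t : Invol G // (t : G) • c = c} => ((t.1 : G))) e⟩

lemma three_le (hC : Ctx G a b F) : 3 ≤ Nat.card (pairStab G a b) := by
  have h1 : Nat.card (pairStab G a b) ≠ 1 := fun h =>
    pairStab_ne_bot hC.zass hC.ne (Subgroup.eq_bot_of_card_eq _ h)
  obtain ⟨r, hr⟩ := hC.inv.odd
  omega

theorem cards (hC : Ctx G a b F) : ∃ n : ℕ, 2 ≤ n ∧ Nat.card (pairStab G a b) + 1 = 2 ^ n ∧
    Nat.card (Subgroup.center F) = 2 ^ n ∧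
    (∃ k : MulAut F, Trans k) ∧
    (Nat.card F = (2 ^ n) ^ 2 ∨ Nat.card F = (2 ^ n) ^ 3) ∧
    (∀ u ∈ F, u * u ∈ fixInv G a) := by
  classical
  haveI := Fact.mk Nat.prime_two
  haveI : IsMulCommutative (pairStab G a b) :=
    ⟨⟨fun x y => Subtype.ext (hC.pairStab_comm' hC.ne x.2 y.2)⟩⟩
  haveI : IsCyclic (pairStab G a b) :=
    (hC.ker.isFPF hC.zass hC.ne).isCyclic_of_comm (hC.ker.ne_bot hC.zass hC.ne)
  obtain ⟨g, hg⟩ := IsCyclic.exists_generator (α := pairStab G a b)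
  let k : MulAut F :=
    { toFun := fun u => ⟨(g : G) * u * (g : G)⁻¹, hC.ker.normal g g.2.1 u u.2⟩
      invFun := fun u => ⟨(g : G)⁻¹ * u * g, by simpa using hC.ker.normal (g : G)⁻¹ (inv_mem g.2.1) u u.2⟩
      left_inv := fun u => Subtype.ext (by simp [mul_assoc])
      right_inv := fun u => Subtype.ext (by simp [mul_assoc])
      map_mul' := fun u v => Subtype.ext (by simp [mul_assoc]) }
  have hk' : ∀ (i : ℕ) (u : F), ((k ^ i) u : G) = (g : G) ^ i * u * ((g : G) ^ i)⁻¹ := by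
    intro i
    induction i with
    | zero => intro u; simp
    | succ i ih =>
      intro u
      rw [pow_apply_succ]
      show (g : G) * ((k ^ i) u : G) * (g : G)⁻¹ = _
      rw [ih, pow_succ']; group
  have hFfix : ∀ u : F, u * u = 1 → (u : G) ∈ fixInv G a := fun u hu =>
    ⟨congrArg Subtype.val hu, hC.ker.le u.2⟩
  have hk : Trans k := by
    intro x y hx hxx hy hyy
    obtain ⟨h, hh, e⟩ := hC.trans_fixInv hC.ne (hFfix x hxx) (fun e => hx (Subtype.ext e)) (hFfix y hyy)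
      (fun e => hy (Subtype.ext e))
    obtain ⟨i, hi⟩ := mem_powers_iff_mem_zpowers.2 (hg (⟨h, hh⟩⁻¹ : pairStab G a b))
    refine ⟨i, Subtype.ext ?_⟩
    rw [hk', ← e]
    have hi' : (g : G) ^ i = h⁻¹ := by simpa using congrArg Subtype.val hi
    rw [hi', inv_inv]
  have hmem : ∀ z ∈ fixInv G a, z ∈ F ∧ ∀ u ∈ F, u * z = z * u := by
    intro z hz
    rcases eq_or_ne z 1 with rfl | hz1
    · exact ⟨one_mem F, fun u _ => by rw [mul_one, one_mul]⟩
    · exact hC.inv.invol_central hC.zass hC.ne hC.ker ⟨z, hz1, hz.1⟩ hz.2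
  have hzc := center_elementary (Nat.card F) F le_rfl hC.pgroup hC.nonab k hk
  let e : Subgroup.center F ≃ fixInv G a :=
    { toFun := fun u => ⟨(u.1 : G), hFfix u.1 (hzc u.1 u.2)⟩
      invFun := fun z => ⟨⟨z, (hmem z z.2).1⟩, Subgroup.mem_center_iff.2 fun u =>
        Subtype.ext ((hmem z z.2).2 u u.2)⟩
      left_inv := fun u => rfl
      right_inv := fun z => rfl }
  have hZ : Nat.card (Subgroup.center F) = Nat.card (pairStab G a b) + 1 := by
    rw [Nat.card_congr e, hC.card_fixInv]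
  obtain ⟨n, hn⟩ := IsPGroup.iff_card.1 (hC.pgroup.to_subgroup (Subgroup.center F))
  have h3 := hC.three_le
  have hn2 : 2 ≤ n := by
    by_contra h
    interval_cases n <;> omega
  have h2a : ∃ x y : F, x ≠ y ∧ x ≠ 1 ∧ x * x = 1 ∧ y ≠ 1 ∧ y * y = 1 := by
    have : Fintype (Subgroup.center F) := Fintype.ofFinite _
    have hcard : 2 < Fintype.card (Subgroup.center F) := by rw [← Nat.card_eq_fintype_card, hZ]; omega
    have : Nontrivial (Subgroup.center F) := Fintype.one_lt_card_iff_nontrivial.1 (by omega)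
    obtain ⟨x, hx⟩ := exists_ne (1 : Subgroup.center F)
    obtain ⟨y, hy⟩ : ∃ y, y ∉ ({1, x} : Finset (Subgroup.center F)) := by
      by_contra hne
      push Not at hne
      have := Finset.card_le_card (s := (Finset.univ : Finset (Subgroup.center F))) fun u _ => hne u
      have := Finset.card_le_two (a := (1 : Subgroup.center F)) (b := x)
      rw [Finset.card_univ] at *
      omega
    simp only [Finset.mem_insert, Finset.mem_singleton, not_or] at hy
    exact ⟨x.1, y.1, fun e => hy.2 (Subtype.ext e).symm, fun e => hx (Subtype.ext e), hzc x.1 x.2,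
      fun e => hy.1 (Subtype.ext e), hzc y.1 y.2⟩
  refine ⟨n, hn2, hZ.symm.trans hn, hn, ⟨k, hk⟩, ?_, fun u hu => ?_⟩
  · obtain ⟨-, h⟩ := card_cases hC.pgroup hC.nonab k hk h2a
    rwa [hn] at h
  · exact hFfix (⟨u, hu⟩ * ⟨u, hu⟩) (hzc _ (squares_central hC.pgroup hC.nonab k hk h2a ⟨u, hu⟩))

end Ctx

end CfsgLib.Chev.Suz2
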