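/-
Triangles and lines.
-/
import Cfsg.Agent.Lib.Chev.Suz2.ZassBasic

set_option autoImplicit false

open MulAction
open CfsgLib.Perm.ZassG

namespace CfsgLib.Chev.Suz2

variable {G Ω : Type*} [Group G] [MulAction G Ω]

/-- the line through two points -/
def line (G : Type*) {Ω : Type*} [Group G] [MulAction G Ω] (c d : Ω) : Set Ω :=
  insert c {p | ∃ z ∈ fixInv G c, z • d = p}

lemma left_mem_line (c d : Ω) : c ∈ line G c d := Set.mem_insert _ _

lemma right_mem_line (c d : Ω) : d ∈ line G c d :=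
  Set.mem_insert_of_mem _ ⟨1, ⟨one_mul 1, one_smul G c⟩, one_smul G d⟩

lemma smul_mem_line {c d p : Ω} (g : G) (h : p ∈ line G c d) : g • p ∈ line G (g • c) (g • d) := by
  rcases h with rfl | ⟨z, hz, rfl⟩
  · exact left_mem_line _ _
  · exact Or.inr ⟨g * z * g⁻¹, conj_mem_fixInv hz, by rw [mul_smul, mul_smul, inv_smul_smul]⟩

lemma smul_mem_line_iff {c d p : Ω} (g : G) : g • p ∈ line G (g • c) (g • d) ↔ p ∈ line G c d :=
  ⟨fun h => by simpa using smul_mem_line g⁻¹ h, smul_mem_line g⟩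

/-- the elements preserving a set -/
def keep (G : Type*) {Ω : Type*} [Group G] [MulAction G Ω] (S : Set Ω) : Subgroup G where
  carrier := {g | ∀ p, g • p ∈ S ↔ p ∈ S}
  one_mem' p := by rw [one_smul]
  mul_mem' {g h} hg hh p := by rw [mul_smul, hg, hh]
  inv_mem' {g} hg p := by conv_rhs => rw [← smul_inv_smul g p, hg]

lemma mem_keep_of_maps [Finite Ω] {S : Set Ω} {g : G} (h : ∀ p ∈ S, g • p ∈ S) : g ∈ keep G S := by
  intro p
  refine ⟨fun hp => ?_, h p⟩
  let f : S → S := fun q => ⟨g • (q : Ω), h q q.2⟩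
  obtain ⟨q, hq⟩ := Finite.surjective_of_injective
    (show Function.Injective f from fun q r e => Subtype.ext (smul_left_cancel g (congrArg Subtype.val e))) ⟨_, hp⟩
  exact smul_left_cancel g (congrArg Subtype.val hq) ▸ q.2

namespace Ctx

variable {a b : Ω} {F : Subgroup G} [Finite G] [Finite Ω]

/-- conjugacy of pairs -/
lemma exists_setup_map (hC : Ctx G a b F) {c c' : Ω} {t t' : G} (ht : t * t = 1) (hc : t • c ≠ c)
    (ht' : t' * t' = 1) (hc' : t' • c' ≠ c') : ∃ g : G, g • c = c' ∧ g * t * g⁻¹ = t' := by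
  obtain ⟨g, hg1, hg2⟩ := exists_move hC.zass c (t • c) c' (t' • c') hc.symm hc'.symm
  have hu1 : (g * t * g⁻¹) • c' = t' • c' := by
    rw [← hg1, mul_smul, mul_smul, inv_smul_smul, hg2, hg1]
  have hu2 : (g * t * g⁻¹) • (t' • c') = c' := by
    rw [← hu1, invol_swap (by rw [show g * t * g⁻¹ * (g * t * g⁻¹) = g * (t * t) * g⁻¹ by group, ht,
      mul_one, mul_inv_cancel])]
  set u := g * t * g⁻¹ with hu
  have huu : u * u = 1 := (hC.invol_of_swap hc'.symm hu1 hu2).2
  have hm : u * t' ∈ pairStab G c' (t' • c') :=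
    mem_pairStab.2 ⟨by rw [mul_smul, hu2], by rw [mul_smul, invol_swap ht', hu1]⟩
  obtain ⟨h, hh, hhh⟩ := hC.exists_sqrt hc'.symm hm
  refine ⟨h⁻¹ * g, ?_, ?_⟩
  · rw [mul_smul, hg1, inv_smul_eq_iff, hh.1]
  · have e := hC.swap_inv hc'.symm hu1 hu2 hh
    have e' : h⁻¹ * u = u * h := by rw [← e, mul_assoc (u * h), huu, mul_one]
    calc h⁻¹ * g * t * (h⁻¹ * g)⁻¹ = h⁻¹ * u * h := by rw [hu]; group
      _ = u * (h * h) := by rw [e', mul_assoc]
      _ = t' := by rw [hhh, ← mul_assoc, huu, one_mul]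

lemma tri_all (hC : Ctx G a b F) {c : Ω} {t : G} (ht : t * t = 1) (hc : t • c ≠ c) (h : Tri c t)
    {c' : Ω} {t' : G} (ht' : t' * t' = 1) (hc' : t' • c' ≠ c') : Tri c' t' := by
  obtain ⟨g, hg, hgt⟩ := hC.exists_setup_map ht hc ht' hc'
  obtain ⟨z, hz1, hz, e⟩ := h
  refine ⟨g * z * g⁻¹, fun h => hz1 (conj_eq_one_iff.1 h), hg ▸ conj_mem_fixInv hz, ?_⟩
  rw [← hgt]
  calc g * t * g⁻¹ * (g * z * g⁻¹) * (g * t * g⁻¹) = g * (t * z * t) * g⁻¹ := by group
    _ = g * (z * t * z) * g⁻¹ := by rw [e]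
    _ = _ := by group

lemma tri_unique (hC : Ctx G a b F) {c : Ω} {t : G} (ht : t * t = 1) (hc : t • c ≠ c) {z w : G}
    (hz1 : z ≠ 1) (hz : z ∈ fixInv G c) (e : t * z * t = z * t * z)
    (hw1 : w ≠ 1) (hw : w ∈ fixInv G c) (e' : t * w * t = w * t * w) : w = z := by
  set d := t • c with hd
  have hdc : t • d = c := invol_swap ht c
  obtain ⟨k, hk, hkw⟩ := hC.trans_fixInv hc.symm hz hz1 hw hw1
  have hinv := hC.swap_inv hc.symm rfl hdc hk
  have htk : t * k⁻¹ = k * t := by rw [← hinv, ← mul_assoc, ← mul_assoc, ht, one_mul]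
  have htk' : t * k = k⁻¹ * t := by rw [← hinv, mul_assoc (t * k), ht, mul_one]
  have hL : t * w * t = k * (z * t * z) * k⁻¹ := by
    rw [← hkw]
    calc t * (k⁻¹ * z * k) * t = t * k⁻¹ * z * (k * t) := by group
      _ = k * t * z * (t * k⁻¹) := by rw [htk]
      _ = k * (t * z * t) * k⁻¹ := by group
      _ = _ := by rw [e]
  have hR : w * t * w = k⁻¹ * z * (k * k) * t * z * k := by
    rw [← hkw]
    calc k⁻¹ * z * k * t * (k⁻¹ * z * k) = k⁻¹ * z * k * (t * k⁻¹) * z * k := by group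
      _ = _ := by rw [htk]; group
  have h := congrArg (fun g => g • c) (hL.symm.trans (e'.trans hR))
  have hka : k • c = c := hk.1
  have hka' : k⁻¹ • c = c := by rw [inv_smul_eq_iff, hka]
  have hkd : k • d = d := hk.2
  simp only [mul_smul, hka, hka', hz.2, ← hd, hkd] at h
  -- `k` and `k⁻¹` agree at `z • d`
  have hzd : (k * k) • (z • d) = z • d := by
    rw [mul_smul, h, smul_inv_smul]
  have hzc : z • d ≠ c := fun e0 => hc (smul_left_cancel z (e0.trans hz.2.symm))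
  have hzd' : z • d ≠ d := fun e0 => hc.symm (hC.fixInv_unique hz1 hz.1 hz.2 e0)
  have hkk : k * k = 1 := eq_one_of_three hC.zass (Ne.symm hzc) hzd' hc.symm
    (by rw [mul_smul, hka, hka]) hzd (by rw [mul_smul, hkd, hkd])
  rw [← hkw, hC.eq_one_of_sq hc.symm hk hkk, inv_one, one_mul, mul_one]

/-- lines are determined by any two of their points -/
lemma line_eq (hC : Ctx G a b F) (hT : ∀ (c : Ω) (t : G), t * t = 1 → t • c ≠ c → Tri c t) {c d : Ω}
    (hcd : c ≠ d) {c' d' : Ω} (hc' : c' ∈ line G c d) (hd' : d' ∈ line G c d) (hne : c' ≠ d') :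
    line G c' d' = line G c d := by
  set Λ := line G c d with hΛ
  obtain ⟨t, ht1, ht2⟩ := exists_swap hC.zass hcd
  have htt := (hC.invol_of_swap hcd ht1 ht2).2
  -- translations
  have hZ : ∀ z ∈ fixInv G c, z ∈ keep G Λ := fun z hz => mem_keep_of_maps fun p hp => by
    rcases hp with rfl | ⟨w, hw, rfl⟩
    · rw [hz.2]; exact left_mem_line _ _
    · exact Or.inr ⟨z * w, (hC.fixInv_mul hz hw).2, mul_smul _ _ _⟩
  have hD : ∀ k ∈ pairStab G c d, k ∈ keep G Λ := fun k hk => mem_keep_of_maps fun p hp => by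
    have := smul_mem_line k hp
    rwa [hk.1, hk.2] at this
  obtain ⟨s, hs1, hs, est⟩ := hT c t htt (by rw [ht1]; exact hcd.symm)
  have ht : t ∈ keep G Λ := mem_keep_of_maps fun p hp => by
    rcases hp with rfl | ⟨w, hw, rfl⟩
    · rw [ht1]; exact right_mem_line _ _
    rcases eq_or_ne w 1 with rfl | hw1
    · rw [one_smul, ht2]; exact left_mem_line _ _
    obtain ⟨k, hk, rfl⟩ := hC.trans_fixInv hcd hs hs1 hw hw1
    refine Or.inr ⟨k * s * k⁻¹, ?_, ?_⟩
    · have := conj_mem_fixInv (g := k) hs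
      rwa [hk.1] at this
    have hinv := hC.swap_inv hcd ht1 ht2 hk
    have hkd' : k⁻¹ • d = d := by rw [inv_smul_eq_iff, hk.2]
    have hkc' : k⁻¹ • c = c := by rw [inv_smul_eq_iff, hk.1]
    have e : t * (k⁻¹ * s * k) * t = k * (t * s * t) * k⁻¹ := by
      have htk : t * k⁻¹ = k * t := by rw [← hinv, ← mul_assoc, ← mul_assoc, htt, one_mul]
      calc t * (k⁻¹ * s * k) * t = t * k⁻¹ * s * (k * t) := by group
        _ = k * t * s * (t * k⁻¹) := by rw [htk]
        _ = _ := by group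
    calc (k * s * k⁻¹) • d = (k * (s * t * s) * k⁻¹) • c := by
          simp only [mul_smul, hkd', hkc', hs.2, ht1]
      _ = (t * (k⁻¹ * s * k) * t) • c := by rw [e, est]
      _ = t • (k⁻¹ * s * k) • d := by rw [mul_smul, ht1, mul_smul]
  have hmove : ∀ p ∈ Λ, ∀ q ∈ Λ, p ≠ q → ∃ g ∈ keep G Λ, g • c = p ∧ g • d = q := by
    intro p hp q hq hpq
    obtain ⟨g, hg, hgc⟩ : ∃ g ∈ keep G Λ, g • c = p := by
      rcases hp with rfl | ⟨w, hw, rfl⟩
      · exact ⟨1, one_mem _, one_smul G _⟩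
      · exact ⟨w * t, mul_mem (hZ w hw) ht, by rw [mul_smul, ht1]⟩
    have hq' : g⁻¹ • q ∈ Λ := ((keep G Λ).inv_mem hg q).2 hq
    rcases hq' with e | ⟨w, hw, e⟩
    · exact absurd (by rw [← hgc, ← e, smul_inv_smul]) hpq
    · exact ⟨g * w, mul_mem hg (hZ w hw), by rw [mul_smul, hw.2, hgc], by
        rw [mul_smul, e, smul_inv_smul]⟩
  obtain ⟨g, hg, rfl, rfl⟩ := hmove c' hc' d' hd' hne
  ext p
  conv_lhs => rw [← smul_inv_smul g p]
  rw [smul_mem_line_iff]
  exact (keep G Λ).inv_mem hg p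

lemma fixInv_keep (hC : Ctx G a b F) {c d : Ω} {z : G} (hz : z ∈ fixInv G c) : z ∈ keep G (line G c d) :=
  mem_keep_of_maps fun p hp => by
    rcases hp with rfl | ⟨w, hw, rfl⟩
    · rw [hz.2]; exact left_mem_line _ _
    · exact Or.inr ⟨z * w, (hC.fixInv_mul hz hw).2, mul_smul _ _ _⟩

lemma card_line (hC : Ctx G a b F) {c d : Ω} (hcd : c ≠ d) :
    Nat.card (line G c d) = Nat.card (pairStab G a b) + 2 := by
  classical
  rw [show Nat.card (pairStab G a b) + 2 = Nat.card (pairStab G a b) + 1 + 1 from rfl, ← hC.card_fixInv c,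
    ← Finite.card_option]
  refine (Nat.card_congr (Equiv.ofBijective
    (fun o : Option (fixInv G c) => (o.elim ⟨c, left_mem_line c d⟩
      fun z => ⟨(z : G) • d, Or.inr ⟨z, z.2, rfl⟩⟩ : line G c d)) ⟨?_, ?_⟩)).symm
  · have hne : ∀ z : fixInv G c, (z : G) • d ≠ c := fun z e =>
      hcd (smul_left_cancel (z : G) (e.trans z.2.2.symm)).symm
    rintro (_ | z) (_ | w) e
    · rfl
    · exact absurd (congrArg Subtype.val e).symm (hne w)
    · exact absurd (congrArg Subtype.val e) (hne z)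
    · have e' : (z : G) • d = (w : G) • d := congrArg Subtype.val e
      have hm := (hC.fixInv_mul w.2 z.2).2
      have h1 : ((w : G) * z) • d = d := by rw [mul_smul, e', invol_swap w.2.1]
      by_cases h : (w : G) * z = 1
      · refine congrArg some (Subtype.ext ?_)
        rw [← inv_eq_of_mul_eq_one_right h, inv_eq_of_mul_eq_one_left w.2.1]
      · exact absurd (hC.fixInv_unique h hm.1 hm.2 h1) hcd
  · rintro ⟨p, rfl | ⟨z, hz, rfl⟩⟩
    · exact ⟨none, rfl⟩
    · exact ⟨some ⟨z, hz⟩, rfl⟩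

end Ctx

end CfsgLib.Chev.Suz2
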