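/-
Centralisers of products of two involutions without fixed points.
-/
import Cfsg.Agent.Lib.Chev.Suz2.ZassLines

set_option autoImplicit false

open MulAction
open CfsgLib.Perm.ZassG

namespace CfsgLib.Chev.Suz2

variable {G Ω : Type*} [Group G] [MulAction G Ω]

/-- a fixed-point-free product of two involutions -/
def FreeProd (x t : G) (Ω : Type*) [MulAction G Ω] : Prop :=
  t ≠ 1 ∧ t * t = 1 ∧ x * t ≠ 1 ∧ x * t * (x * t) = 1 ∧ ∀ p : Ω, x • p ≠ p

lemma mul_two_pow_eq {M : Type*} [Group M] [Finite M] {u : M} (hu : Odd (orderOf u)) :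
    ∃ k : ℕ, (u * u) ^ k = u := by
  obtain ⟨r, hr⟩ := hu
  exact ⟨r + 1, by rw [← pow_two, ← pow_mul, show 2 * (r + 1) = orderOf u + 1 by omega, pow_succ,
    pow_orderOf_eq_one, one_mul]⟩

lemma three_pow_sub_one {j i : ℕ} (h : 3 ^ j - 1 = 2 ^ i) : j ≤ 2 := by
  rcases Nat.even_or_odd' j with ⟨l, rfl | rfl⟩
  · by_contra hl
    have h3 : 3 ^ 2 ≤ 3 ^ l := Nat.pow_le_pow_right (by norm_num) (by omega)
    have hprod : (3 ^ l - 1) * (3 ^ l + 1) = 2 ^ i := by
      have e := Nat.sq_sub_sq (3 ^ l) 1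
      rw [one_pow] at e
      rw [← h, mul_comm 2 l, pow_mul, e, mul_comm]
    obtain ⟨p, -, hp⟩ := (Nat.dvd_prime_pow Nat.prime_two).1 (Dvd.intro _ hprod)
    obtain ⟨q, -, hq⟩ := (Nat.dvd_prime_pow Nat.prime_two).1 (Dvd.intro_left _ hprod)
    have hpq : p < q := (Nat.pow_lt_pow_iff_right (a := 2) (by norm_num)).1 (by omega)
    have h8 : 2 ^ 3 ≤ 2 ^ p := by omega
    have hp3 : 3 ≤ p := (Nat.pow_le_pow_iff_right (a := 2) (by norm_num)).1 h8
    have hdvd : 2 ^ p ∣ 2 ^ q := pow_dvd_pow 2 hpq.le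
    have h4 : 2 ^ 2 ∣ 2 ^ p := pow_dvd_pow 2 (by omega)
    obtain ⟨u, hu⟩ := h4
    obtain ⟨v, hv⟩ := hdvd
    have : 2 ^ q - 2 ^ p = 2 := by omega
    have h4' : 4 ∣ 2 ^ q - 2 ^ p := Nat.dvd_sub ((pow_dvd_pow 2 (show 2 ≤ q by omega))) ⟨u, hu⟩
    rw [this] at h4'
    exact absurd (Nat.le_of_dvd (by norm_num) h4') (by norm_num)
  · have h4 : ∀ l : ℕ, 3 ^ (2 * l + 1) % 4 = 3 := fun l => by
      induction l with
      | zero => norm_num
      | succ l ih => rw [show 2 * (l + 1) + 1 = 2 * l + 1 + 2 by ring, pow_add, Nat.mul_mod, ih]; norm_num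
    have hl4 := h4 l
    have hi : i < 2 := by
      by_contra hi
      have : 4 ∣ 2 ^ i := (pow_dvd_pow 2 (show 2 ≤ i by omega))
      generalize 3 ^ (2 * l + 1) = X at h hl4
      generalize 2 ^ i = Y at h this
      omega
    have : 3 ^ (2 * l + 1) ≤ 3 := by
      interval_cases i <;> omega
    have := (Nat.pow_le_pow_iff_right (a := 3) (by norm_num : 1 < 3) (n := 2 * l + 1) (m := 1)).1 (by simpa using this)
    omega

lemma mem_normalizer_of_maps [Finite G] {H : Subgroup G} {g : G} (h : ∀ w ∈ H, g * w * g⁻¹ ∈ H) :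
    g ∈ Subgroup.normalizer (H : Set G) := by
  rw [Subgroup.mem_normalizer_iff]
  refine fun w => ⟨h w, fun hw => ?_⟩
  let f : H → H := fun v => ⟨g * v * g⁻¹, h v v.2⟩
  obtain ⟨v, hv⟩ := Finite.surjective_of_injective (show Function.Injective f from fun u v e =>
    Subtype.ext (mul_left_cancel (mul_right_cancel (congrArg Subtype.val e)))) ⟨_, hw⟩
  have : (v : G) = w := mul_left_cancel (mul_right_cancel (congrArg Subtype.val hv))
  exact this ▸ v.2

namespace Ctx

variable {a b : Ω} {F : Subgroup G} [Finite G] [Finite Ω]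

section

variable {x t : G}

lemma freeProd_conj (hx : FreeProd x t Ω) : t * x * t = x⁻¹ := by
  have h := eq_inv_of_mul_eq_one_left hx.2.2.2.1
  rw [mul_inv_rev, inv_eq_of_mul_eq_one_left hx.2.1] at h
  rw [mul_assoc, h, ← mul_assoc, hx.2.1, one_mul]

lemma freeProd_fixed (hC : Ctx G a b F) (hx : FreeProd x t Ω) : ∃ c d : Ω, c ≠ d ∧ (x * t) • c = c ∧ t • d = d := by
  obtain ⟨c, hc⟩ := hC.exists_fixed hx.2.2.1 hx.2.2.2.1
  obtain ⟨d, hd⟩ := hC.exists_fixed hx.1 hx.2.1
  refine ⟨c, d, fun e => hx.2.2.2.2 c ?_, hc, hd⟩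
  rw [← e] at hd
  rwa [mul_smul, hd] at hc

lemma cent_commute_eq_one (hC : Ctx G a b F) (hx : FreeProd x t Ω) {u : G}
    (hu : u * x = x * u) (hut : u * t = t * u) : u = 1 := by
  obtain ⟨c, d, hcd, hc, hd⟩ := hC.freeProd_fixed hx
  have huy : u * (x * t) = x * t * u := by rw [← mul_assoc, hu, mul_assoc, hut, ← mul_assoc]
  have huc : u • c = c := hC.fixInv_unique hx.2.2.1 hx.2.2.2.1 (by rw [← mul_smul, ← huy, mul_smul, hc]) hc
  have hud : u • d = d := hC.fixInv_unique hx.1 hx.2.1 (by rw [← mul_smul, ← hut, mul_smul, hd]) hd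
  exact hC.eq_one_of_commute hcd (mem_pairStab.2 ⟨huc, hud⟩) hx.2.2.1 ⟨hx.2.2.2.1, hc⟩ huy

lemma cent_inverted (hC : Ctx G a b F) (hx : FreeProd x t Ω) {u : G}
    (hu : u * x = x * u) : t * u * t = u⁻¹ := by
  classical
  have htx := freeProd_conj hx
  let C := Subgroup.centralizer ({x} : Set G)
  have hC' : ∀ {w : G}, w ∈ C ↔ w * x = x * w := fun {w} => by
    rw [Subgroup.mem_centralizer_iff]; exact ⟨fun h => (h x rfl).symm, fun h u hu => by rw [Set.mem_singleton_iff.1 hu]; exact h.symm⟩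
  have hxt : x * t = t * x⁻¹ := by rw [← htx, ← mul_assoc, ← mul_assoc, hx.2.1, one_mul]
  have hxt' : t * x = x⁻¹ * t := by rw [← htx, mul_assoc (t * x), hx.2.1, mul_one]
  have hmem : ∀ w ∈ C, t * w * t ∈ C := fun w hw => by
    rw [hC'] at hw ⊢
    have hw' : w * x⁻¹ = x⁻¹ * w := by
      rw [eq_inv_mul_iff_mul_eq, ← mul_assoc, ← hw, mul_inv_cancel_right]
    calc t * w * t * x = t * (w * x⁻¹) * t := by rw [mul_assoc (t * w) t x, hxt']; group
      _ = t * x⁻¹ * (w * t) := by rw [hw']; group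
      _ = x * (t * w * t) := by rw [← hxt]; group
  let f : C → C := fun w => ⟨(w : G)⁻¹ * (t * w * t), mul_mem (inv_mem w.2) (hmem w w.2)⟩
  have hf : Function.Injective f := by
    intro v w e
    have e' : (v : G)⁻¹ * (t * v * t) = (w : G)⁻¹ * (t * w * t) := congrArg Subtype.val e
    refine Subtype.ext (eq_of_mul_inv_eq_one ?_).symm
    refine hC.cent_commute_eq_one hx (hC'.1 (mul_mem w.2 (inv_mem v.2))) ?_
    have h := congrArg (fun g => (w : G) * g * t * (v : G)⁻¹) e'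
    simpa [mul_assoc, ← mul_assoc t t, hx.2.1] using h
  obtain ⟨w, hw⟩ := Finite.surjective_of_injective hf ⟨u, hC'.2 hu⟩
  have hw' : (w : G)⁻¹ * (t * w * t) = u := congrArg Subtype.val hw
  rw [← hw', mul_inv_rev, inv_inv]
  simp [mul_assoc, ← mul_assoc t t, hx.2.1, inv_eq_of_mul_eq_one_left hx.2.1]

lemma cent_comm (hC : Ctx G a b F) (hx : FreeProd x t Ω) {u v : G}
    (hu : u * x = x * u) (hv : v * x = x * v) : u * v = v * u := by
  have h := hC.cent_inverted hx (u := u * v) (by rw [mul_assoc, hv, ← mul_assoc, hu, mul_assoc])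
  rw [show t * (u * v) * t = (t * u * t) * (t * v * t) by simp [mul_assoc, ← mul_assoc t t, hx.2.1],
    hC.cent_inverted hx hu, hC.cent_inverted hx hv, ← mul_inv_rev, inv_inj] at h
  exact h.symm

lemma cent_odd (hC : Ctx G a b F) (hx : FreeProd x t Ω) {u : G} (hu : u * x = x * u) : Odd (orderOf u) := by
  by_contra h
  rw [Nat.not_odd_iff_even] at h
  obtain ⟨m, hm⟩ := h
  have hv : u ^ m * u ^ m = 1 := by rw [← pow_add, ← hm, pow_orderOf_eq_one]
  have hvx : u ^ m * x = x * u ^ m := (Commute.pow_left hu m).eq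
  have hvt : u ^ m * t = t * u ^ m := by
    have := hC.cent_inverted hx hvx
    rw [inv_eq_of_mul_eq_one_left hv] at this
    conv_lhs => rw [← this, mul_assoc (t * u ^ m), hx.2.1, mul_one]
  have h1 := hC.cent_commute_eq_one hx hvx hvt
  have hpos : 0 < orderOf u := orderOf_pos u
  exact pow_ne_one_of_lt_orderOf (by omega) (by omega) h1

lemma cent_semiregular (hC : Ctx G a b F) (hx : FreeProd x t Ω) {u : G} (hu : u * x = x * u)
    {p : Ω} (hp : u • p = p) : u = 1 := by
  by_contra hu1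
  have h1 : u • (x • p) = x • p := by rw [← mul_smul, hu, mul_smul, hp]
  have h2 : u • (x • x • p) = x • x • p := by rw [← mul_smul, hu, mul_smul, h1]
  have hne := hx.2.2.2.2
  rcases fixed_eq hC.zass (hne p).symm (mem_pairStab.2 ⟨hp, h1⟩) hu1 h2 with e | e
  · obtain ⟨k, hk⟩ := mul_two_pow_eq (hC.cent_odd hx (rfl : x * x = x * x))
    refine hne p ?_
    have : ∀ k : ℕ, (x * x) ^ k • p = p := by
      intro k
      induction k with
      | zero => simp
      | succ k ih => rw [pow_succ, mul_smul, mul_smul, e, ih]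
    rw [← hk, this k]
  · exact hne (x • p) e

lemma freeProd_of_cent (hC : Ctx G a b F) (hx : FreeProd x t Ω) {u : G} (hu : u * x = x * u) (hu1 : u ≠ 1) :
    FreeProd u t Ω := by
  refine ⟨hx.1, hx.2.1, fun e => ?_, ?_, fun p hp => hu1 (hC.cent_semiregular hx hu hp)⟩
  · have hut : u = t := by
      rw [← inv_eq_of_mul_eq_one_left hx.2.1]; exact eq_inv_of_mul_eq_one_left e
    rw [hut] at hu
    exact hx.1 (hC.cent_commute_eq_one hx hu rfl)
  · rw [show u * t * (u * t) = u * (t * u * t) by group, hC.cent_inverted hx hu, mul_inv_cancel]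

lemma card_cent_dvd (hC : Ctx G a b F) (hx : FreeProd x t Ω) (H : Subgroup G)
    (hH : ∀ u ∈ H, u * x = x * u) (Λ : Set Ω) (hΛ : H ≤ keep G Λ) :
    Nat.card H ∣ Nat.card Λ := by
  letI : MulAction H Λ :=
    { smul := fun h p => ⟨(h : G) • (p : Ω), (hΛ h.2 p).2 p.2⟩
      one_smul := fun p => Subtype.ext (one_smul G (p : Ω))
      mul_smul := fun g h p => Subtype.ext (mul_smul (g : G) h (p : Ω)) }
  have hfree : ∀ p : Λ, MulAction.stabilizer H p = ⊥ := fun p => eq_bot_iff.2 fun h hh =>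
    Subgroup.mem_bot.2 (Subtype.ext (hC.cent_semiregular hx (hH h h.2) (congrArg Subtype.val hh)))
  have := Nat.card_congr (MulAction.selfEquivOrbitsQuotientProd hfree)
  rw [this, Nat.card_prod]
  exact dvd_mul_left _ _

end

/-- the centraliser of a fixed-point-free product of two involutions is small -/
theorem card_centralizer_le (hC : Ctx G a b F) (hT : ∀ (c : Ω) (t : G), t * t = 1 → t • c ≠ c → Tri c t)
    {q : ℕ} {n : ℕ} (hq : Nat.card (pairStab G a b) + 1 = q) (hqn : q = 2 ^ n) (hq4 : 4 ≤ q)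
    (hF : Nat.card F = q ^ 2 ∨ Nat.card F = q ^ 3) {x t : G} (hx : FreeProd x t Ω) :
    Nat.card (Subgroup.centralizer ({x} : Set G)) ≤ q + 1 := by
  classical
  set C := Subgroup.centralizer ({x} : Set G) with hCdef
  have hC' : ∀ {w : G}, w ∈ C ↔ w * x = x * w := fun {w} => by
    rw [Subgroup.mem_centralizer_iff]; exact ⟨fun h => (h x rfl).symm, fun h u hu => by rw [Set.mem_singleton_iff.1 hu]; exact h.symm⟩
  obtain ⟨c, d, hcd, hc, hd⟩ := hC.freeProd_fixed hx
  have hline : ∀ {p r : Ω}, p ≠ r → Nat.card (line G p r) = q + 1 := fun h => by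
    rw [hC.card_line h, ← hq]
  -- each element preserves a line through `d`
  have hex : ∀ u ∈ C, ∃ p : Ω, u ≠ 1 → p ≠ d ∧ u ∈ keep G (line G p d) := by
    intro u hu
    by_cases hu1 : u = 1
    · exact ⟨d, fun h => absurd hu1 h⟩
    have hu' := hC.freeProd_of_cent hx (hC'.1 hu) hu1
    obtain ⟨p, hp⟩ := hC.exists_fixed hu'.2.2.1 hu'.2.2.2.1
    have hpd : p ≠ d := by
      rintro rfl
      rw [mul_smul, hd] at hp
      exact hu'.2.2.2.2 _ hp
    refine ⟨p, fun _ => ⟨hpd, ?_⟩⟩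
    have h1 : u * t ∈ keep G (line G p d) := hC.fixInv_keep ⟨hu'.2.2.2.1, hp⟩
    have h2 : t ∈ keep G (line G p d) := by
      have := hC.fixInv_keep (c := d) (d := p) (z := t) ⟨hx.2.1, hd⟩
      rwa [hC.line_eq hT hpd (right_mem_line p d) (left_mem_line p d) hpd.symm] at this
    have := mul_mem h1 h2
    rwa [mul_assoc, hx.2.1, mul_one] at this
  choose pt hpt using hex
  have huniq : ∀ u ∈ C, u ≠ 1 → ∀ p q' : Ω, p ≠ d → q' ≠ d → u ∈ keep G (line G p d) →
      u ∈ keep G (line G q' d) → line G p d = line G q' d := by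
    intro u hu hu1 p r hp hr h1 h2
    have hud : u • d ≠ d := fun h => hu1 (hC.cent_semiregular hx (hC'.1 hu) h)
    have m1 : u • d ∈ line G p d := (h1 d).2 (right_mem_line _ _)
    have m2 : u • d ∈ line G r d := (h2 d).2 (right_mem_line _ _)
    rw [← hC.line_eq hT hp m1 (right_mem_line _ _) hud, hC.line_eq hT hr m2 (right_mem_line _ _) hud]
  set Λ := line G c d with hΛ
  have hxC : x ∈ C := hC'.2 rfl
  have hxΛ : x ∈ keep G Λ := by
    have h1 : x * t ∈ keep G Λ := hC.fixInv_keep ⟨hx.2.2.2.1, hc⟩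
    have h2 : t ∈ keep G Λ := by
      have := hC.fixInv_keep (c := d) (d := c) (z := t) ⟨hx.2.1, hd⟩
      rwa [hC.line_eq hT hcd (right_mem_line c d) (left_mem_line c d) hcd.symm] at this
    have := mul_mem h1 h2
    rwa [mul_assoc, hx.2.1, mul_one] at this
  have hx1 : x ≠ 1 := fun h => hx.2.2.2.2 d (by rw [h, one_smul])
  by_cases hall : C ≤ keep G Λ
  · exact (Nat.le_of_dvd (by rw [hline hcd]; omega) (hC.card_cent_dvd hx C (fun u hu => hC'.1 hu) Λ hall)).trans
      (le_of_eq (hline hcd))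
  obtain ⟨v, hvC, hv⟩ := SetLike.not_le_iff_exists.1 hall
  have hv1 : v ≠ 1 := fun h => hv (h ▸ one_mem _)
  -- elements of different components have the same order
  have hord : ∀ u ∈ C, u ≠ 1 → ∀ w ∈ C, w ≠ 1 → ∀ p r : Ω, p ≠ d → r ≠ d →
      u ∈ keep G (line G p d) → w ∈ keep G (line G r d) → line G p d ≠ line G r d →
        w ^ orderOf u = 1 := by
    intro u hu hu1 w hw hw1 p r hp hr hup hwr hne
    by_contra hne'
    have huw : u * w = w * u := hC.cent_comm hx (hC'.1 hu) (hC'.1 hw)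
    have hmem : u * w ∈ C := mul_mem hu hw
    have huw1 : u * w ≠ 1 := fun e => by
      have : w = u⁻¹ := eq_inv_of_mul_eq_one_right e
      exact hne (huniq w hw hw1 p r hp hr (this ▸ inv_mem hup) hwr)
    obtain ⟨hs, hsmem⟩ := hpt (u * w) hmem huw1
    have hpow : (u * w) ^ orderOf u = w ^ orderOf u := by
      rw [Commute.mul_pow (show Commute u w from huw), pow_orderOf_eq_one, one_mul]
    have e := huniq _ (pow_mem hw (orderOf u)) hne' _ _ hs hr (hpow ▸ pow_mem hsmem _) (pow_mem hwr _)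
    rw [e] at hsmem
    have hur : u ∈ keep G (line G r d) := by
      have := mul_mem hsmem (inv_mem hwr)
      rwa [mul_inv_cancel_right] at this
    exact hne (huniq u hu hu1 p r hp hr hup hur)
  obtain ⟨hpv, hvmem⟩ := hpt v hvC hv1
  have hneΛ : Λ ≠ line G (pt v hvC) d := fun e => hv (e ▸ hvmem)
  have hord' : ∀ u ∈ C, u ≠ 1 → u ∈ keep G Λ → orderOf u = orderOf v := fun u hu hu1 huΛ =>
    Nat.dvd_antisymm (orderOf_dvd_of_pow_eq_one (hord v hvC hv1 u hu hu1 _ _ hpv hcd hvmem huΛ hneΛ.symm))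
      (orderOf_dvd_of_pow_eq_one (hord u hu hu1 v hvC hv1 _ _ hcd hpv huΛ hvmem hneΛ))
  set p := orderOf x with hpdef
  have hp1 : p ≠ 1 := fun h => hx1 (orderOf_eq_one_iff.1 h)
  have hpp : p.Prime := by
    set l := p.minFac
    have hlp : l.Prime := Nat.minFac_prime hp1
    obtain ⟨k, hk⟩ : l ∣ p := Nat.minFac_dvd p
    have hk0 : k ≠ 0 := by
      rintro rfl
      have := orderOf_pos x
      rw [mul_zero] at hk
      omega
    have hne1 : x ^ k ≠ 1 := pow_ne_one_of_lt_orderOf hk0 (by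
      rw [← hpdef, hk]
      calc k = 1 * k := (one_mul k).symm
        _ < l * k := Nat.mul_lt_mul_of_pos_right hlp.one_lt (Nat.pos_of_ne_zero hk0))
    have h1 := hord' _ (pow_mem hxC k) hne1 (pow_mem hxΛ k)
    rw [← hord' x hxC hx1 hxΛ, orderOf_pow, ← hpdef, hk, Nat.gcd_eq_right (dvd_mul_left k l),
      Nat.mul_div_cancel _ (Nat.pos_of_ne_zero hk0)] at h1
    rw [hk, ← h1]
    exact hlp
  haveI := Fact.mk hpp
  have hexp : ∀ u ∈ C, u ^ p = 1 := by
    intro u hu
    rcases eq_or_ne u 1 with rfl | hu1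
    · exact one_pow p
    by_cases huΛ : u ∈ keep G Λ
    · rw [show p = orderOf u by rw [hord' u hu hu1 huΛ, hpdef, hord' x hxC hx1 hxΛ]]
      exact pow_orderOf_eq_one u
    · obtain ⟨h1, h2⟩ := hpt u hu hu1
      exact hord x hxC hx1 u hu hu1 _ _ hcd h1 hxΛ h2 (fun e => huΛ (by rw [hΛ, e]; exact h2))
  obtain ⟨j, hj⟩ := IsPGroup.iff_card.1 (show IsPGroup p C from fun u => ⟨1, Subtype.ext (by
    rw [SubgroupClass.coe_pow, pow_one]; exact hexp u u.2)⟩)
  have hj0 : j ≠ 0 := by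
    rintro rfl
    rw [pow_zero] at hj
    obtain ⟨h, -⟩ := Nat.card_eq_one_iff_unique.1 hj
    exact hx1 (congrArg Subtype.val (Subsingleton.elim (⟨x, hxC⟩ : C) 1))
  -- the prime divides `q + 1`, the order divides the number of points
  have hpq : p ∣ q + 1 := by
    rw [← hline hcd, hpdef, ← Nat.card_zpowers]
    exact hC.card_cent_dvd hx _ (fun u hu => hC'.1 (Subgroup.zpowers_le.2 hxC hu)) Λ
      (Subgroup.zpowers_le.2 hxΛ)
  have hjn : p ^ j ∣ Nat.card F + 1 := by
    rw [← hj, ← hC.card_points]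
    have := hC.card_cent_dvd hx C (fun u hu => hC'.1 hu) Set.univ (fun u _ r => by simp)
    rwa [Nat.card_univ] at this
  have hp2 : p ≠ 2 := fun e => by
    have h2 : 2 ∣ q := by rw [hqn]; exact dvd_pow_self 2 (by rintro rfl; simp at hqn; omega)
    rw [e] at hpq
    omega
  by_cases hp3 : p = 3
  · -- all elements are conjugate
    have hconj : ∀ {u : G}, FreeProd u t Ω → u ^ 3 = 1 → ∀ {w : G}, FreeProd w t Ω → w ^ 3 = 1 →
        ∃ g : G, g * u * g⁻¹ = w := by
      intro u hu hu3 w hw hw3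
      obtain ⟨cu, du, hcu, hcu', hdu⟩ := hC.freeProd_fixed hu
      obtain ⟨cw, dw, hcw, hcw', hdw⟩ := hC.freeProd_fixed hw
      have hm : ∀ {u : G} {cu du : Ω}, FreeProd u t Ω → u ^ 3 = 1 → cu ≠ du → t • du = du →
          (u * t) • cu = cu → t • cu ≠ cu ∧ t * (u * t) * t = u * t * t * (u * t) := by
        intro u cu du hu hu3 hne hdu hcu
        refine ⟨fun h => hne (hC.fixInv_unique hu.1 hu.2.1 h hdu), ?_⟩
        have h1 : t * (u * t) * t = t * u := by rw [mul_assoc t, mul_assoc u, hu.2.1, mul_one]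
        have h2 : u * t * t * (u * t) = u * u * t := by rw [mul_assoc u t t, hu.2.1, mul_one, ← mul_assoc]
        have huu : u * u = u⁻¹ := eq_inv_of_mul_eq_one_left (by rw [← hu3, pow_succ, pow_two])
        rw [h1, h2, huu, ← freeProd_conj hu, mul_assoc (t * u), hu.2.1, mul_one]
      obtain ⟨htu, eu⟩ := hm hu hu3 hcu hdu hcu'
      obtain ⟨htw, ew⟩ := hm hw hw3 hcw hdw hcw'
      obtain ⟨g, hg, hgt⟩ := hC.exists_setup_map hu.2.1 htu hw.2.1 htw
      refine ⟨g, ?_⟩
      have hz1 : g * (u * t) * g⁻¹ ≠ 1 := fun h => hu.2.2.1 (conj_eq_one_iff.1 h)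
      have hz : g * (u * t) * g⁻¹ ∈ fixInv G cw := hg ▸ conj_mem_fixInv ⟨hu.2.2.2.1, hcu'⟩
      have e1 : t * (g * (u * t) * g⁻¹) * t = g * (u * t) * g⁻¹ * t * (g * (u * t) * g⁻¹) := by
        calc t * (g * (u * t) * g⁻¹) * t = g * t * g⁻¹ * (g * (u * t) * g⁻¹) * (g * t * g⁻¹) := by rw [hgt]
          _ = g * (t * (u * t) * t) * g⁻¹ := by group
          _ = g * (u * t * t * (u * t)) * g⁻¹ := by rw [eu]
          _ = g * (u * t) * g⁻¹ * (g * t * g⁻¹) * (g * (u * t) * g⁻¹) := by group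
          _ = _ := by rw [hgt]
      have := hC.tri_unique hw.2.1 htw hz1 hz e1 hw.2.2.1 ⟨hw.2.2.2.1, hcw'⟩ ew
      calc g * u * g⁻¹ = g * (u * t) * g⁻¹ * (g * t * g⁻¹)⁻¹ := by group
        _ = w := by rw [hgt, ← this, inv_eq_of_mul_eq_one_left hw.2.1, mul_assoc, hw.2.1, mul_one]
    let H := Subgroup.normalizer (C : Set G) ⊓ Subgroup.centralizer ({t} : Set G)
    have hHt : ∀ {h : G}, h ∈ H → h * t = t * h := fun {h} hh => by
      have := Subgroup.mem_centralizer_iff.1 hh.2 t rfl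
      exact this.symm
    have hHC : ∀ {h : G}, h ∈ H → h * x * h⁻¹ ∈ C := fun {h} hh =>
      (Subgroup.mem_normalizer_iff.1 hh.1 x).1 hxC
    -- the orbit is regular and everything
    let φ : H → {u : C // u ≠ 1} := fun h => ⟨⟨(h : G) * x * (h : G)⁻¹, hHC h.2⟩, fun e =>
      hx1 (conj_eq_one_iff.1 (congrArg Subtype.val e))⟩
    have hφ : Function.Bijective φ := by
      refine ⟨fun h h' e => ?_, fun ⟨⟨u, hu⟩, hu1⟩ => ?_⟩
      · have e' : (h : G) * x * (h : G)⁻¹ = h' * x * (h' : G)⁻¹ :=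
          congrArg (fun z : {u : C // u ≠ 1} => (z.1 : G)) e
        have hm : (h' : G)⁻¹ * h ∈ H := mul_mem (inv_mem h'.2) h.2
        refine Subtype.ext (inv_mul_eq_one.1 (hC.cent_commute_eq_one hx ?_ (hHt hm))).symm
        have := congrArg (fun g => (h' : G)⁻¹ * g * h) e'
        simpa [mul_assoc] using this
      have hu1' : u ≠ 1 := fun e => hu1 (Subtype.ext e)
      have hu' := hC.freeProd_of_cent hx (hC'.1 hu) hu1'
      obtain ⟨g, hg⟩ := hconj hx (by rw [← hp3, hpdef, pow_orderOf_eq_one]) hu' (by rw [← hp3]; exact hexp u hu)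
      -- `g` normalises `C`
      have hgC : ∀ w ∈ C, g * w * g⁻¹ ∈ C := by
        intro w hw
        rw [hC']
        refine hC.cent_comm hu' ?_ (hC'.1 hu).symm
        rw [← hg]
        calc g * w * g⁻¹ * (g * x * g⁻¹) = g * (w * x) * g⁻¹ := by group
          _ = g * (x * w) * g⁻¹ := by rw [hC'.1 hw]
          _ = _ := by group
      have hgN : g ∈ Subgroup.normalizer (C : Set G) :=
        mem_normalizer_of_maps hgC
      -- correct `g` by an element of `C`
      have htu : t * u * t = u⁻¹ := hC.cent_inverted hx (hC'.1 hu)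
      set w := g * t * g⁻¹ * t with hw
      have hwu : w * u = u * w := by
        have h1 : g * t * g⁻¹ * u⁻¹ * (g * t * g⁻¹) = u := by
          rw [← hg]
          calc g * t * g⁻¹ * (g * x * g⁻¹)⁻¹ * (g * t * g⁻¹) = g * (t * x⁻¹ * t) * g⁻¹ := by group
            _ = g * x * g⁻¹ := by
              rw [← freeProd_conj hx]
              simp [mul_assoc, ← mul_assoc t t, hx.2.1]
        have htt' : g * t * g⁻¹ * (g * t * g⁻¹) = 1 := by
          rw [show g * t * g⁻¹ * (g * t * g⁻¹) = g * (t * t) * g⁻¹ by group, hx.2.1, mul_one, mul_inv_cancel]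
        calc w * u = g * t * g⁻¹ * (t * u * t) * t := by
              simp [hw, mul_assoc, hx.2.1]
          _ = g * t * g⁻¹ * u⁻¹ * (g * t * g⁻¹) * (g * t * g⁻¹) * t := by
              rw [htu, mul_assoc (g * t * g⁻¹ * u⁻¹) _ _, htt', mul_one]
          _ = u * w := by rw [h1, hw]; group
      have hwC : w ∈ C := hC'.2 (hC.cent_comm hu' hwu (hC'.1 hu).symm)
      obtain ⟨k, hk⟩ := mul_two_pow_eq (hC.cent_odd hx (hC'.1 hwC))
      set v' := w ^ k with hv'
      have hvC : v' ∈ C := pow_mem hwC k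
      have hvv : v' * v' = w := by rw [hv', ← pow_add, ← two_mul, pow_mul, pow_two, hk]
      refine ⟨⟨v'⁻¹ * g, Subgroup.mem_inf.2 ⟨mul_mem (inv_mem (Subgroup.le_normalizer hvC)) hgN, ?_⟩⟩, Subtype.ext (Subtype.ext ?_)⟩
      · rw [Subgroup.mem_centralizer_iff]
        intro s hs
        rw [Set.mem_singleton_iff.1 hs]
        have hvt : t * v'⁻¹ = v' * t := by
          rw [← hC.cent_inverted hx (hC'.1 hvC), ← mul_assoc, ← mul_assoc, hx.2.1, one_mul]
        calc t * (v'⁻¹ * g) = v'⁻¹ * (v' * v' * t) * g := by rw [← mul_assoc, hvt]; group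
          _ = v'⁻¹ * g * t := by
            rw [hvv, hw, mul_assoc (g * t * g⁻¹) t t, hx.2.1, mul_one]; group
      · show v'⁻¹ * g * x * (v'⁻¹ * g)⁻¹ = u
        calc v'⁻¹ * g * x * (v'⁻¹ * g)⁻¹ = v'⁻¹ * (g * x * g⁻¹) * v' := by group
          _ = u := by rw [hg, mul_assoc, hC.cent_comm hx (hC'.1 hu) (hC'.1 hvC), inv_mul_cancel_left]
    have hH2 : IsPGroup 2 H := by
      obtain ⟨K, hK, hKz⟩ := hC.exists_kernel_mem d
      have hHK : H ≤ K := by
        intro h hh
        have hhd : h • d = d := hC.fixInv_unique hx.1 hx.2.1 (by rw [← mul_smul, ← hHt hh, mul_smul, hd]) hd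
        obtain ⟨e, hde⟩ := hC.exists_other d
        obtain ⟨u, hu, l, hl, rfl⟩ := hK.exists_decomp hde hhd
        have hut : u * t = t * u := (hKz t ⟨hx.2.1, hd⟩).2 u hu
        have hlt : l * t = t * l := by
          have h1 := hHt hh
          rw [mul_assoc, ← mul_assoc t, ← hut, mul_assoc] at h1
          exact mul_left_cancel h1
        rw [hC.eq_one_of_commute hde hl hx.1 ⟨hx.2.1, hd⟩ hlt, mul_one]
        exact hu
      obtain ⟨e, hde⟩ := hC.exists_other d
      have hK2 : IsPGroup 2 K := by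
        haveI := Fact.mk Nat.prime_two
        obtain ⟨i, hi⟩ := IsPGroup.iff_card.1 hC.pgroup
        refine IsPGroup.of_card (n := i) ?_
        have h1 := hK.card_add_one hde
        rw [hC.card_points, hi] at h1
        omega
      exact hK2.to_le hHK
    haveI := Fact.mk Nat.prime_two
    obtain ⟨i, hi⟩ := IsPGroup.iff_card.1 hH2
    have hcount : Nat.card H + 1 = Nat.card C := by
      rw [Nat.card_eq_of_bijective φ hφ, ← Finite.card_option]
      exact Nat.card_congr (Equiv.optionSubtypeNe (1 : C))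
    rw [hi, hj, hp3] at hcount
    have hj2 := three_pow_sub_one (j := j) (i := i) (by omega)
    rw [hj, hp3]
    have : 3 ^ j ≤ 9 := (Nat.pow_le_pow_right (by norm_num) hj2).trans (by norm_num)
    have h8 : 8 ≤ q + 1 := by
      rw [hp3] at hpq
      by_contra h
      have : q = 4 := by
        rcases (show n ≤ 2 ∨ 3 ≤ n by omega) with h' | h'
        · interval_cases n <;> omega
        · have : 2 ^ 3 ≤ 2 ^ n := Nat.pow_le_pow_right two_pos h'
          omega
      omega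
    rcases (show n ≤ 2 ∨ 3 ≤ n by omega) with h' | h'
    · interval_cases n <;> omega
    · have : 2 ^ 3 ≤ 2 ^ n := Nat.pow_le_pow_right two_pos h'
      omega
  · have hzq : (p : ℤ) ∣ (q : ℤ) + 1 := by exact_mod_cast hpq
    rcases hF with hF | hF <;> rw [hF] at hjn
    · exfalso
      have h1 : (p : ℤ) ∣ (q : ℤ) ^ 2 + 1 := by exact_mod_cast (dvd_pow_self p hj0).trans hjn
      have h2 : (p : ℤ) ∣ 2 := by
        have := dvd_sub h1 (dvd_mul_of_dvd_left hzq ((q : ℤ) - 1))
        rwa [show (q : ℤ) ^ 2 + 1 - ((q : ℤ) + 1) * ((q : ℤ) - 1) = 2 by ring] at this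
      exact hp2 ((Nat.prime_dvd_prime_iff_eq hpp Nat.prime_two).1 (by exact_mod_cast h2))
    · have hle : q ≤ q ^ 2 := Nat.le_self_pow two_ne_zero q
      have hfac : q ^ 3 + 1 = (q ^ 2 - q + 1) * (q + 1) := by
        zify [hle]; ring
      have hcop : ¬ p ∣ q ^ 2 - q + 1 := fun h => by
        have h' : (p : ℤ) ∣ ((q ^ 2 - q + 1 : ℕ) : ℤ) := by exact_mod_cast h
        push_cast [Nat.cast_sub hle] at h'
        have h3 : (p : ℤ) ∣ 3 := by
          have := dvd_sub h' (dvd_mul_of_dvd_left hzq ((q : ℤ) - 2))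
          rwa [show (q : ℤ) ^ 2 - q + 1 - ((q : ℤ) + 1) * ((q : ℤ) - 2) = 3 by ring] at this
        exact hp3 ((Nat.prime_dvd_prime_iff_eq hpp Nat.prime_three).1 (by exact_mod_cast h3))
      rw [hfac] at hjn
      rw [hj]
      exact Nat.le_of_dvd (by omega) ((Nat.Coprime.pow_left j ((Nat.Prime.coprime_iff_not_dvd hpp).2 hcop)).dvd_of_dvd_mul_left hjn)

end Ctx

end CfsgLib.Chev.Suz2
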