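/-
A non-abelian 2-kernel in a Zassenhaus group has order `q ^ 2` with `q` an odd power of two.
-/
import Cfsg.Agent.Lib.Chev.Suz2.ZassCentralizer

set_option autoImplicit false

open MulAction
open CfsgLib.Perm.ZassG

namespace CfsgLib.Chev.Suz2

variable {G Ω : Type*} [Group G] [MulAction G Ω]

lemma arith_contra {n e I A P f1 N P' g : ℕ} (hn : e + 2 < n) (he : 1 ≤ e) (h1 : I = n * e)
    (h2 : A + P = I * I) (h3 : 2 * P + (n - 2) * I ≤ n * e * I + f1) (h4 : f1 ≤ n * (e * e - e))
    (h5 : A ≤ (e + 2) * N) (h6 : N + P' = g) (h7 : 2 * g + n * (n - 1) + 2 = 2 * P' + g + 2 * n)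
    (h8 : g = n * (n - 1) * e) : False := by
  obtain ⟨m, rfl⟩ : ∃ m, n = m + 2 := ⟨n - 2, by omega⟩
  obtain ⟨j, rfl⟩ : ∃ j, e = j + 1 := ⟨e - 1, by omega⟩
  subst h1 h8
  rw [show (j + 1) * (j + 1) - (j + 1) = (j + 1) * j by
    rw [show (j + 1) * (j + 1) = (j + 1) * j + (j + 1) by ring, Nat.add_sub_cancel]] at h4
  simp only [Nat.add_sub_cancel, show m + 2 - 1 = m + 1 from rfl] at h3 h6 h7
  nlinarith [mul_le_mul_of_nonneg_left h5 (Nat.zero_le 2),
    Nat.mul_le_mul_left (m + 1) (show j + 3 + 1 ≤ m + 2 by omega), congrArg (fun z => (j + 3) * z) h7,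
    congrArg (fun z => (j + 3) * z) h6]

namespace Ctx

variable {a b : Ω} {F : Subgroup G} [Finite G] [Finite Ω]

/-- triangles are impossible -/
theorem no_tri (hC : Ctx G a b F) {c₀ : Ω} {t₀ : G} (ht₀ : t₀ * t₀ = 1) (hc₀ : t₀ • c₀ ≠ c₀)
    (h : Tri c₀ t₀) : False := by
  classical
  have hT : ∀ (c : Ω) (t : G), t * t = 1 → t • c ≠ c → Tri c t := fun c t ht hc =>
    hC.tri_all ht₀ hc₀ h ht hc
  obtain ⟨n', hn2, hq, -, -, hF, -⟩ := hC.cards
  have := Fintype.ofFinite G
  have := Fintype.ofFinite Ω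
  have := Fintype.ofFinite (Invol G)
  set e := Nat.card (pairStab G a b) with he
  set n := Nat.card Ω with hn
  set q := 2 ^ n' with hqdef
  have hq4 : 4 ≤ q := by
    calc 4 = 2 ^ 2 := by norm_num
      _ ≤ 2 ^ n' := Nat.pow_le_pow_right two_pos hn2
  have hne : e + 2 < n := by
    rw [hn, hC.card_points]
    have : q * q ≤ Nat.card F := by
      rcases hF with h | h <;> rw [h]
      · rw [pow_two]
      · rw [pow_succ, pow_two]; exact Nat.le_mul_of_pos_right _ (by omega)
    nlinarith
  let π : Invol G × Invol G → G := fun p => (p.1 : G) * p.2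
  let fx : G → Finset Ω := fun x => Finset.univ.filter fun c => x • c = c
  have hfx : ∀ x : G, x ≠ 1 → (fx x).card ≤ 2 := by
    intro x hx
    by_contra hlt
    obtain ⟨c, hc, d, hd, r, hr, hcd, hcr, hdr⟩ := Finset.two_lt_card.1 (by omega : 2 < (fx x).card)
    exact hx (eq_one_of_three hC.zass hcd hdr hcr (Finset.mem_filter.1 hc).2 (Finset.mem_filter.1 hd).2
      (Finset.mem_filter.1 hr).2)
  have hfx1 : (fx 1).card = n := by
    simp [fx, hn, Nat.card_eq_fintype_card]
  -- pairs of involutions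
  let U : Finset (Invol G × Invol G) := Finset.univ
  set A0 := U.filter fun p => (fx (π p)).card = 0 with hA0
  set PP := U.filter fun p => ¬ (fx (π p)).card = 0 with hPP
  set F1 := U.filter fun p => (fx (π p)).card = 1 with hF1
  set D := U.filter fun p => p.1 = p.2 with hD
  have hsum : ∑ p ∈ U, (fx (π p)).card = n * e * Fintype.card (Invol G) := by
    rw [← Finset.card_sigma]
    rw [show (U.sigma fun p => fx (π p)).card = Nat.card {s : (Invol G × Invol G) × Ω // π s.1 • s.2 = s.2} by
      rw [Nat.card_eq_fintype_card, Fintype.card_subtype]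
      exact Finset.card_bij' (fun s _ => (s.1, s.2)) (fun s _ => ⟨s.1, s.2⟩)
        (by intro s hs; simp [U, fx] at hs ⊢; exact hs) (by intro s hs; simp [U, fx] at hs ⊢; exact hs)
        (fun _ _ => rfl) (fun _ _ => rfl)]
    rw [show Nat.card {s : (Invol G × Invol G) × Ω // π s.1 • s.2 = s.2} =
        Nat.card (Σ r : Invol G × Ω, {y : Invol G // (y : G) • ((r.1 : G) • r.2) = r.2}) from Nat.card_congr
      { toFun := fun s => ⟨(s.1.1.2, s.1.2), s.1.1.1, by rw [← mul_smul]; exact s.2⟩
        invFun := fun s => ⟨((s.2.1, s.1.1), s.1.2), by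
          show ((s.2.1 : G) * s.1.1) • s.1.2 = s.1.2
          rw [mul_smul]; exact s.2.2⟩
        left_inv := fun s => rfl
        right_inv := fun s => rfl }]
    rw [Nat.card_sigma, Finset.sum_congr rfl (g := fun _ => e) fun r _ => ?_, Finset.sum_const, Finset.card_univ,
      Fintype.card_prod, smul_eq_mul, ← Nat.card_eq_fintype_card (α := Ω), ← hn]
    · ring
    by_cases hr : (r.1 : G) • r.2 = r.2
    · rw [hr, hC.inv.card_fix_point hC.zass hC.ne, if_pos hC.odd_points]
    · exact hC.inv.card_swap hC.zass hC.ne hr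
  have h3 : 2 * PP.card + (n - 2) * D.card ≤ n * e * Fintype.card (Invol G) + F1.card := by
    rw [← hsum, hF1, hPP, hD, Finset.card_filter, Finset.card_filter, Finset.card_filter, Finset.mul_sum,
      Finset.mul_sum, ← Finset.sum_add_distrib, ← Finset.sum_add_distrib]
    refine Finset.sum_le_sum fun p _ => ?_
    by_cases hp : p.1 = p.2
    · have h1 : π p = 1 := by show (p.1 : G) * p.2 = 1; rw [← hp, p.1.2.2]
      rw [h1, hfx1, if_pos hp]
      split_ifs <;> omega
    · rw [if_neg hp]
      split_ifs <;> omega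
  have hDcard : D.card = Fintype.card (Invol G) := by
    rw [hD, ← Finset.card_univ]
    refine Finset.card_bij' (fun p _ => p.1) (fun t _ => (t, t)) (fun _ _ => Finset.mem_univ _)
      (fun t _ => by simp [U]) (fun p hp => ?_) (fun _ _ => rfl)
    have := (Finset.mem_filter.1 hp).2
    exact Prod.ext rfl this
  have h4 : F1.card ≤ n * (e * e - e) := by
    let K : Ω → Finset (Invol G) := fun c => Finset.univ.filter fun t => (t : G) • c = c
    have hK : ∀ c, (K c).offDiag.card = e * e - e := fun c => by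
      rw [Finset.offDiag_card, show (K c).card = Nat.card {t : Invol G // (t : G) • c = c} by
        rw [Nat.card_eq_fintype_card, Fintype.card_subtype], hC.inv.card_fix_point hC.zass hC.ne c,
        if_pos hC.odd_points]
    refine le_trans (Finset.card_le_card (t := (Finset.univ : Finset Ω).biUnion fun c => (K c).offDiag) ?_)
      ((Finset.card_biUnion_le).trans (le_of_eq ?_))
    · intro p hp
      obtain ⟨c, hc⟩ := Finset.card_eq_one.1 (Finset.mem_filter.1 hp).2
      have hmem : ∀ r, π p • r = r ↔ r = c := fun r => by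
        have := Finset.ext_iff.1 hc r
        simpa [fx] using this
      have hc' : π p • c = c := (hmem c).2 rfl
      have h1 : (p.1 : G) • c = c := (hmem _).1 (fix_mul_comm (mul_mul_eq_inv p.1 p.2) hc')
      have h2 : (p.2 : G) • c = c := by
        have hc'' : (p.1 : G) • (p.2 : G) • c = c := by rw [← mul_smul]; exact hc'
        exact smul_left_cancel _ (hc''.trans h1.symm)
      refine Finset.mem_biUnion.2 ⟨c, Finset.mem_univ _, Finset.mem_offDiag.2
        ⟨Finset.mem_filter.2 ⟨Finset.mem_univ _, h1⟩, Finset.mem_filter.2 ⟨Finset.mem_univ _, h2⟩, fun h => ?_⟩⟩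
      obtain ⟨d, hd⟩ := hC.exists_other c
      refine hd ((hmem d).1 ?_).symm
      show ((p.1 : G) * p.2) • d = d
      rw [← h, p.1.2.2, one_smul]
    · rw [Finset.sum_congr rfl fun c _ => hK c, Finset.sum_const, Finset.card_univ, smul_eq_mul, hn,
        Nat.card_eq_fintype_card]
  -- elements without fixed points
  let V : Finset G := Finset.univ
  set N0 := V.filter fun x => (fx x).card = 0 with hN0
  set P' := V.filter fun x => ¬ (fx x).card = 0 with hP'
  have h5 : A0.card ≤ (e + 2) * N0.card := by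
    refine Finset.card_le_mul_card_image_of_maps_to (f := π) (s := A0) (t := N0) (fun p hp => Finset.mem_filter.2
      ⟨Finset.mem_univ _, (Finset.mem_filter.1 hp).2⟩) _ fun x hx => ?_
    rcases Finset.eq_empty_or_nonempty (A0.filter fun p => π p = x) with h0 | ⟨p₀, hp₀⟩
    · rw [h0]; simp
    obtain ⟨hp₀', hπ⟩ := Finset.mem_filter.1 hp₀
    have hfree : FreeProd x (p₀.2 : G) Ω := by
      have hxt : x * p₀.2 = p₀.1 := by
        rw [← hπ]; show (p₀.1 : G) * p₀.2 * p₀.2 = p₀.1
        rw [mul_assoc, p₀.2.2.2, mul_one]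
      refine ⟨p₀.2.2.1, p₀.2.2.2, by rw [hxt]; exact p₀.1.2.1, by rw [hxt]; exact p₀.1.2.2, fun r hr => ?_⟩
      have h0 := (Finset.mem_filter.1 hx).2
      rw [Finset.card_eq_zero] at h0
      have : r ∈ fx x := Finset.mem_filter.2 ⟨Finset.mem_univ _, hr⟩
      rw [h0] at this
      exact absurd this (Finset.notMem_empty r)
    have hle := hC.card_centralizer_le hT hq hqdef hq4 hF hfree
    rw [show e + 2 = q + 1 by omega]
    refine le_trans ?_ hle
    rw [Nat.card_eq_fintype_card, ← Finset.card_univ]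
    have hinj : ∀ p ∈ A0.filter (fun p => π p = x),
        (p.1 : G) * (p₀.1 : G) ∈ Subgroup.centralizer ({x} : Set G) := by
      intro p hp
      have e1 : (p.1 : G) * x * p.1 = x⁻¹ := by rw [← (Finset.mem_filter.1 hp).2]; exact mul_mul_eq_inv p.1 p.2
      have e2 : (p₀.1 : G) * x * p₀.1 = x⁻¹ := by rw [← hπ]; exact mul_mul_eq_inv p₀.1 p₀.2
      rw [Subgroup.mem_centralizer_iff]
      intro y hy
      rw [Set.mem_singleton_iff.1 hy]
      have e3 : (p₀.1 : G) * x = x⁻¹ * p₀.1 := by
        rw [← e2, mul_assoc ((p₀.1 : G) * x), p₀.1.2.2, mul_one]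
      have e4 : (p.1 : G) * x⁻¹ = x * p.1 := by
        rw [← e1, ← mul_assoc, ← mul_assoc, p.1.2.2, one_mul]
      rw [← mul_assoc, ← e4, mul_assoc (p.1 : G), ← e3, mul_assoc]
    refine Finset.card_le_card_of_injOn (fun p => if h : (p.1 : G) * (p₀.1 : G) ∈
      Subgroup.centralizer ({x} : Set G) then ⟨_, h⟩ else 1) (fun _ _ => Finset.mem_univ _) fun p hp r hr h => ?_
    simp only [dif_pos (hinj p hp), dif_pos (hinj r hr)] at h
    have h1 : p.1 = r.1 := Subtype.ext (mul_right_cancel (congrArg Subtype.val h))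
    refine Prod.ext h1 (Subtype.ext (mul_left_cancel (a := (p.1 : G)) ?_))
    calc (p.1 : G) * p.2 = x := (Finset.mem_filter.1 hp).2
      _ = (r.1 : G) * r.2 := (Finset.mem_filter.1 hr).2.symm
      _ = (p.1 : G) * r.2 := by rw [h1]
  have hcG : Fintype.card G = n * (n - 1) * e := by
    rw [← Nat.card_eq_fintype_card, hC.ker.card_group hC.zass hC.ne, hn, he, hC.card_points,
      Nat.add_sub_cancel, mul_assoc]
  have hpre := CfsgLib.Perm.ZassG.isPretransitive hC.zass hC.ne
  have hs1 : ∑ x ∈ V, (fx x).card = Fintype.card G := by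
    rw [← Finset.card_sigma]
    rw [show (V.sigma fun x => fx x).card = Nat.card (Σ c : Ω, stabilizer G c) by
      rw [Nat.card_eq_fintype_card, ← Finset.card_univ]
      exact Finset.card_bij' (fun s hs => ⟨s.2, s.1, by simpa [V, fx] using hs⟩) (fun s _ => ⟨s.2.1, s.1⟩)
        (fun _ _ => Finset.mem_univ _) (by intro s _; simp [V, fx]; exact s.2.2) (fun _ _ => rfl) (fun _ _ => rfl)]
    rw [Nat.card_sigma, Finset.sum_congr rfl (g := fun _ => Nat.card (stabilizer G a)) fun c _ => ?_,
      Finset.sum_const, Finset.card_univ, smul_eq_mul, ← Nat.card_eq_fintype_card (α := Ω),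
      ← Nat.card_eq_fintype_card (α := G), ← (stabilizer G a).card_mul_index, index_stabilizer_of_transitive,
      mul_comm]
    refine Nat.eq_of_mul_eq_mul_right (show 0 < Nat.card Ω by omega) ?_
    have h1 := (stabilizer G c).card_mul_index
    have h2 := (stabilizer G a).card_mul_index
    rw [index_stabilizer_of_transitive] at h1 h2
    rw [h1, h2]
  have hs2 : ∑ x ∈ V, (fx x).offDiag.card = Fintype.card G := by
    rw [hcG, ← Finset.card_sigma]
    rw [show (V.sigma fun x => (fx x).offDiag).card =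
        Nat.card (Σ p : {p : Ω × Ω // p.1 ≠ p.2}, pairStab G p.1.1 p.1.2) by
      rw [Nat.card_eq_fintype_card, ← Finset.card_univ]
      exact Finset.card_bij' (fun s hs => ⟨⟨s.2, by simp [V, fx] at hs; exact hs.2.2⟩, s.1, by
          simp [V, fx] at hs; exact mem_pairStab.2 ⟨hs.1, hs.2.1⟩⟩) (fun s _ => ⟨s.2.1, s.1.1⟩)
        (fun _ _ => Finset.mem_univ _) (by
          intro s _
          have h := mem_pairStab.1 s.2.2
          simp [V, fx, h.1, h.2, s.1.2]) (fun _ _ => rfl) (fun _ _ => rfl)]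
    rw [Nat.card_sigma, Finset.sum_congr rfl (g := fun _ => e) fun p _ => ?_, Finset.sum_const, Finset.card_univ,
      smul_eq_mul, ← Nat.card_eq_fintype_card, card_ne_pairs hC.zass hC.ne, ← hn]
    exact hC.card_pairStab p.2
  have h7 : 2 * Fintype.card G + n * (n - 1) + 2 = 2 * P'.card + Fintype.card G + 2 * n := by
    have hpt : ∀ x : G, 2 * (fx x).card + (if x = 1 then n * (n - 1) + 2 else 0) =
        2 * (if ¬ (fx x).card = 0 then 1 else 0) + (fx x).offDiag.card + (if x = 1 then 2 * n else 0) := by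
      intro x
      rw [Finset.offDiag_card]
      rcases eq_or_ne x 1 with rfl | hx
      · rw [if_pos rfl, if_pos rfl, hfx1, if_pos (show ¬ n = 0 by omega), Nat.mul_sub, mul_one]
        omega
      · rw [if_neg hx, if_neg hx]
        have := hfx x hx
        interval_cases (fx x).card <;> simp
    have hs := Finset.sum_congr rfl (fun x (_ : x ∈ V) => hpt x)
    rw [Finset.sum_add_distrib, Finset.sum_add_distrib, Finset.sum_add_distrib, ← Finset.mul_sum,
      ← Finset.mul_sum, hs1, hs2, ← Finset.card_filter (fun x => ¬ (fx x).card = 0) V,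
      Finset.sum_ite_eq', Finset.sum_ite_eq', if_pos (Finset.mem_univ _), if_pos (Finset.mem_univ _),
      ← hP', ← add_assoc] at hs
    exact hs
  have hIc := hC.inv.card_invol hC.zass hC.ne
  rw [if_pos hC.odd_points, Nat.card_eq_fintype_card, ← he, ← hn, mul_comm] at hIc
  have h2 : A0.card + PP.card = Fintype.card (Invol G) * Fintype.card (Invol G) := by
    rw [hA0, hPP, Finset.card_filter_add_card_filter_not, Finset.card_univ, Fintype.card_prod]
  have h6 : N0.card + P'.card = Fintype.card G := by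
    rw [hN0, hP', Finset.card_filter_add_card_filter_not, Finset.card_univ]
  rw [hDcard] at h3
  exact arith_contra hne (by omega) hIc h2 h3 h4 h5 h6 h7 hcG

/-- the order of the kernel -/
theorem kernel_card (hC : Ctx G a b F) : ∃ n : ℕ, Odd n ∧ 1 < n ∧
    Nat.card (pairStab G a b) + 1 = 2 ^ n ∧ Nat.card (Subgroup.center F) = 2 ^ n ∧
    (∃ k : MulAut F, Trans k) ∧ Nat.card F = (2 ^ n) ^ 2 := by
  classical
  obtain ⟨n, hn2, hq, hZ, hk, hF, hsqF⟩ := hC.cards
  obtain ⟨t, hta, htb⟩ := exists_swap hC.zass hC.ne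
  obtain ⟨ht1, htt⟩ := hC.invol_of_swap hC.ne hta htb
  have hnt := fun (c : Ω) (t : G) (ht : t * t = 1) (hc : t • c ≠ c) (h : Tri c t) => hC.no_tri ht hc h
  have h3 : ¬ 3 ∣ Nat.card (pairStab G a b) := by
    intro h3
    haveI := Fact.mk Nat.prime_three
    obtain ⟨⟨k, hk⟩, hk3⟩ := exists_prime_orderOf_dvd_card' 3 h3
    rw [Subgroup.orderOf_mk] at hk3
    set y := k * t with hy
    have hya : y • a = b := by rw [hy, mul_smul, hta, hk.2]
    have hyb : y • b = a := by rw [hy, mul_smul, htb, hk.1]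
    obtain ⟨hy1, hyy⟩ := hC.invol_of_swap hC.ne hya hyb
    obtain ⟨c, hc⟩ := hC.exists_fixed hy1 hyy
    refine hnt c t htt (fun h => ?_) ⟨y, hy1, ⟨hyy, hc⟩, ?_⟩
    · have hkc : k • c = c := by rwa [hy, mul_smul, h] at hc
      have hk1 : k ≠ 1 := fun e => by rw [e, orderOf_one] at hk3; omega
      rcases fixed_eq hC.zass hC.ne hk hk1 hkc with rfl | rfl
      · exact hC.ne (h.symm.trans hta)
      · exact hC.ne (htb.symm.trans h)
    · have hkk : k * k * k = 1 := by rw [← pow_two, ← pow_succ, show 2 + 1 = orderOf k by omega, pow_orderOf_eq_one]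
      have e := hC.swap_inv hC.ne hta htb hk
      calc t * y * t = t * k := by rw [hy, ← mul_assoc, mul_assoc (t * k) t t, htt, mul_one]
        _ = k⁻¹ * t := by rw [← e, mul_assoc (t * k), htt, mul_one]
        _ = k * k * t := by rw [inv_eq_of_mul_eq_one_left hkk]
        _ = y * t * y := by rw [hy, mul_assoc k t t, htt, mul_one, ← mul_assoc]
  have hodd : Odd n := by
    by_contra h
    rw [Nat.not_odd_iff_even] at h
    obtain ⟨l, rfl⟩ := h
    apply h3
    rw [show Nat.card (pairStab G a b) = 4 ^ l - 1 ^ l by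
      rw [one_pow, show (4 : ℕ) = 2 * 2 from rfl, mul_pow, ← pow_add]; omega]
    exact Nat.sub_dvd_pow_sub_pow 4 1 l
  refine ⟨n, hodd, hn2, hq, hZ, hk, hF.resolve_right fun hF3 => ?_⟩
  -- an element `r` with `t * s * t = r⁻¹ * t * r`
  obtain ⟨z₀, hz₀1, hz₀⟩ : ∃ z : G, z ≠ 1 ∧ z ∈ fixInv G a := by
    by_contra hne
    push Not at hne
    have : Subsingleton (fixInv G a) := ⟨fun u v => Subtype.ext (by
      rw [by_contra fun h => hne u h u.2, by_contra fun h => hne v h v.2])⟩
    have h1 := Finite.card_le_one_iff_subsingleton.2 this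
    rw [hC.card_fixInv] at h1
    have := hC.three_le
    omega
  set w := t * z₀ * t with hw
  have hww : w * w = 1 := by
    rw [hw, show t * z₀ * t * (t * z₀ * t) = t * z₀ * (t * t) * z₀ * t by group, htt, mul_one,
      mul_assoc t z₀ z₀, hz₀.1, mul_one, htt]
  have hw1 : w ≠ 1 := fun h => hz₀1 (by
    have := congrArg (fun g => t * g * t) h
    simpa [hw, mul_assoc, htt, ← mul_assoc t t] using this)
  have hwb : w • b = b := by rw [hw, mul_smul, mul_smul, htb, hz₀.2, hta]
  have hwa : w • a ≠ a := fun h => hC.ne (hC.fixInv_unique hw1 hww h hwb)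
  obtain ⟨⟨r₀, hr₀F⟩, hr₀, -⟩ := hC.ker.regular (w • a) b hwa hC.ne.symm
  have hr₀a : r₀ • a = a := hC.ker.le hr₀F
  set y := r₀ * w * r₀⁻¹ with hy
  have hyy : y * y = 1 := by
    rw [hy, show r₀ * w * r₀⁻¹ * (r₀ * w * r₀⁻¹) = r₀ * (w * w) * r₀⁻¹ by group, hww, mul_one, mul_inv_cancel]
  have hya : y • a = b := by
    rw [hy, mul_smul, mul_smul, inv_smul_eq_iff.2 hr₀a.symm]; exact hr₀
  have hyb : y • b = a := by rw [← hya, invol_swap hyy]
  set k := y * t with hkdef
  have hkmem : k ∈ pairStab G a b :=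
    mem_pairStab.2 ⟨by rw [hkdef, mul_smul, hta, hyb], by rw [hkdef, mul_smul, htb, hya]⟩
  obtain ⟨h, hh, hhk⟩ := hC.exists_sqrt hC.ne (inv_mem hkmem)
  set s := h⁻¹ * z₀ * h with hs
  set r := h * r₀ * h⁻¹ with hr
  have hsmem : s ∈ fixInv G a := by
    have h' : h⁻¹ • a = a := by rw [inv_smul_eq_iff, hh.1]
    have := conj_mem_fixInv (g := h⁻¹) hz₀
    rwa [inv_inv, h'] at this
  have hs1 : s ≠ 1 := fun e => hz₀1 (by
    have := congrArg (fun g => h * g * h⁻¹) e
    simpa [hs, mul_assoc] using this)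
  have hrF : r ∈ F := hC.ker.normal h hh.1 r₀ hr₀F
  have hinv := hC.swap_inv hC.ne hta htb hh
  have htk : t * h⁻¹ = h * t := by rw [← hinv, ← mul_assoc, ← mul_assoc, htt, one_mul]
  have htk' : t * h = h⁻¹ * t := by rw [← hinv, mul_assoc (t * h), htt, mul_one]
  have hrel : t * s * t = r⁻¹ * t * r := by
    have hkh : h * k * h = 1 := by
      rw [hC.pairStab_comm' hC.ne hh hkmem, mul_assoc, hhk, mul_inv_cancel]
    calc t * s * t = t * h⁻¹ * z₀ * (h * t) := by rw [hs]; group
      _ = h * t * z₀ * (t * h⁻¹) := by rw [htk]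
      _ = h * w * h⁻¹ := by rw [hw]; group
      _ = h * (r₀⁻¹ * (k * t) * r₀) * h⁻¹ := by
          rw [hkdef, mul_assoc y, htt, mul_one, hy]; group
      _ = (h * r₀ * h⁻¹)⁻¹ * (h * k * h) * (h⁻¹ * t * h⁻¹) * (h * r₀ * h⁻¹) := by group
      _ = r⁻¹ * t * r := by
          rw [hkh, mul_one, mul_assoc h⁻¹ t h⁻¹, htk, inv_mul_cancel_left, hr]
  have hrs : r * s = s * r := by
    obtain ⟨-, hcen⟩ := hC.inv.invol_central hC.zass hC.ne hC.ker ⟨s, hs1, hsmem.1⟩ hsmem.2
    exact hcen r hrF
  set x := s * t with hx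
  have hxr : r⁻¹ * x * r = x * x := by
    calc r⁻¹ * x * r = r⁻¹ * (s * r) * (r⁻¹ * t * r) := by rw [hx]; group
      _ = s * (t * s * t) := by rw [← hrs, hrel]; group
      _ = x * x := by rw [hx]; group
  have hsfix : ∀ p : Ω, s • p = p → p = a := fun p hp => hC.fixInv_unique hs1 hsmem.1 hp hsmem.2
  -- `x ^ 3 = 1` gives a triangle
  have tri : x * x * x = 1 → False := by
    intro hx3
    refine hnt a t htt (fun e => hC.ne (e.symm.trans hta)) ⟨s, hs1, hsmem, ?_⟩
    have h2 : x * x = x⁻¹ := eq_inv_of_mul_eq_one_left hx3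
    rw [hx, mul_inv_rev, inv_eq_of_mul_eq_one_left htt, inv_eq_of_mul_eq_one_left hsmem.1] at h2
    calc t * s * t = s * t * (s * t) * t := by rw [h2]
      _ = s * t * s := by simp [mul_assoc, htt]
  by_cases hrr : r * r = 1
  · refine tri ?_
    have e : r⁻¹ * (x * x) * r = x * x * (x * x) := by
      calc r⁻¹ * (x * x) * r = r⁻¹ * x * r * (r⁻¹ * x * r) := by group
        _ = _ := by rw [hxr]
    have e2 : r⁻¹ * (r⁻¹ * x * r) * r = x := by
      rw [inv_eq_of_mul_eq_one_left hrr, show r * (r * x * r) * r = r * r * x * (r * r) by group, hrr,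
        one_mul, mul_one]
    rw [hxr, e] at e2
    exact mul_left_cancel (a := x) (by rw [mul_one, show x * (x * x * x) = x * x * (x * x) by group]; exact e2)
  by_cases hfix : ∃ p : Ω, x • p = p
  · obtain ⟨p, hp⟩ := hfix
    refine tri ?_
    have htxt : t * x * t = x⁻¹ := by
      rw [hx, mul_inv_rev, inv_eq_of_mul_eq_one_left htt, inv_eq_of_mul_eq_one_left hsmem.1,
        ← mul_assoc, mul_assoc (t * s) t t, htt, mul_one]
    have hx1 : x ≠ 1 := fun e => by
      have hst : s = t := by
        have := congrArg (· * t) e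
        simpa [hx, mul_assoc, htt] using this
      exact hC.ne ((hst ▸ hsmem.2).symm.trans hta)
    have hp' : x • (t • p) = t • p := fix_mul_comm (t := ⟨t, ht1, htt⟩) htxt hp
    have hne : p ≠ t • p := fun e => by
      have hsp : s • p = p := by
        have := hp
        rwa [hx, mul_smul, ← e] at this
      rw [hsfix p hsp, hta] at e
      exact hC.ne e
    have hxm : x ∈ pairStab G p (t • p) := mem_pairStab.2 ⟨hp, hp'⟩
    have hconj : IsConj x (x * x) := isConj_iff.2 ⟨r⁻¹, by rw [inv_inv]; exact hxr⟩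
    rcases (hC.inv.transport hC.zass hC.ne hne).eq_of_isConj hC.zass hne hxm hx1 (mul_mem hxm hxm) hconj with e | e
    · exact absurd (mul_left_cancel (e.trans (mul_one x).symm)) hx1
    · rw [e, inv_mul_cancel]
  · push Not at hfix
    have hxt : x * t = s := by rw [hx, mul_assoc, htt, mul_one]
    have hfree : FreeProd x t Ω := ⟨ht1, htt, by rw [hxt]; exact hs1, by rw [hxt]; exact hsmem.1, hfix⟩
    set z := r * r with hzdef
    have hzmem : z ∈ fixInv G a := hsqF r hrF
    have hzx : z⁻¹ * x * z = x * x * (x * x) := by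
      calc z⁻¹ * x * z = r⁻¹ * (r⁻¹ * x * r) * r := by rw [hzdef]; group
        _ = r⁻¹ * (x * x) * r := by rw [hxr]
        _ = r⁻¹ * x * r * (r⁻¹ * x * r) := by group
        _ = _ := by rw [hxr]
    have hzinv : z⁻¹ = z := inv_eq_of_mul_eq_one_left hzmem.1
    rw [hzinv] at hzx
    -- `z` inverts the centraliser of `x`
    set C := Subgroup.centralizer ({x} : Set G) with hCdef
    have hC' : ∀ {v : G}, v ∈ C ↔ v * x = x * v := fun {v} => by
      rw [Subgroup.mem_centralizer_iff]
      exact ⟨fun h => (h x rfl).symm, fun h u hu => by rw [Set.mem_singleton_iff.1 hu]; exact h.symm⟩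
    have hmaps : ∀ v ∈ C, z * v * z ∈ C := by
      intro v hv
      rw [hC'] at hv ⊢
      have hx' : z * (x * x * (x * x)) * z = x := by
        rw [← hzx, show z * (z * x * z) * z = z * z * x * (z * z) by group, hzmem.1, one_mul, mul_one]
      have hc4 : v * (x * x * (x * x)) = x * x * (x * x) * v :=
        (((show Commute v x from hv).mul_right hv).mul_right ((show Commute v x from hv).mul_right hv)).eq
      calc z * v * z * x = z * v * (z * z) * (x * x * (x * x)) * z := by
            conv_lhs => rw [← hx']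
            group
        _ = z * (x * x * (x * x)) * (z * z) * v * z := by rw [hzmem.1, mul_one, mul_assoc z v, hc4, mul_one]; group
        _ = x * (z * v * z) := by
            conv_rhs => rw [← hx']
            group
    have hmapsto : ∀ v ∈ C, v⁻¹ * (z * v * z) ∈ C := fun v hv => mul_mem (inv_mem hv) (hmaps v hv)
    let f : C → C := fun v => ⟨_, hmapsto v v.2⟩
    have hf : Function.Injective f := by
      intro u v e
      have e' : (u : G)⁻¹ * (z * u * z) = (v : G)⁻¹ * (z * v * z) := congrArg Subtype.val e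
      have hm : (v : G) * (u : G)⁻¹ ∈ C := mul_mem v.2 (inv_mem u.2)
      have hcz : z * ((v : G) * (u : G)⁻¹) = (v : G) * (u : G)⁻¹ * z := by
        have := congrArg (fun g => (v : G) * g * z * (u : G)⁻¹) e'
        simpa [mul_assoc, hzmem.1, ← mul_assoc z z] using this.symm
      have hfixa : ((v : G) * (u : G)⁻¹) • a = a :=
        hC.fixInv_unique hrr hzmem.1 (by rw [← mul_smul, hcz, mul_smul, hzmem.2]) hzmem.2
      exact Subtype.ext (eq_of_mul_inv_eq_one (hC.cent_semiregular hfree (hC'.1 hm) hfixa)).symm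
    obtain ⟨⟨v, hv⟩, he⟩ := Finite.surjective_of_injective hf ⟨x, hC'.2 rfl⟩
    have he' : v⁻¹ * (z * v * z) = x := congrArg Subtype.val he
    have hx5 : x * x * (x * x) = x⁻¹ := by
      calc x * x * (x * x) = z * (v⁻¹ * (z * v * z)) * z := by rw [he', hzx]
        _ = z * v⁻¹ * z * v * (z * z) := by simp only [mul_assoc]
        _ = z⁻¹ * v⁻¹ * z⁻¹ * v := by rw [hzmem.1, mul_one, hzinv]
        _ = (v⁻¹ * (z * v * z))⁻¹ := by group
        _ = x⁻¹ := by rw [he']
    have h5 : x ^ 5 = 1 := by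
      rw [show x ^ 5 = x * x * (x * x) * x by simp [pow_succ, mul_assoc], hx5, inv_mul_cancel]
    have hx1 : x ≠ 1 := fun e => hfix a (by rw [e, one_smul])
    have hord : orderOf x = 5 := by
      haveI := Fact.mk (show Nat.Prime 5 by norm_num)
      exact orderOf_eq_prime h5 hx1
    have hdvd := hC.card_cent_dvd hfree (Subgroup.zpowers x)
      (fun u hu => hC'.1 (Subgroup.zpowers_le.2 (hC'.2 rfl) hu)) Set.univ (fun u _ p => by simp)
    rw [Nat.card_zpowers, hord, Nat.card_univ, hC.card_points, hF3] at hdvd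
    obtain ⟨l, rfl⟩ := hodd
    have hmod : ∀ l : ℕ, (2 ^ (2 * l + 1)) ^ 3 % 5 ≠ 4 := fun l => by
      have key : (2 ^ (2 * l + 1)) % 5 = 2 ∨ (2 ^ (2 * l + 1)) % 5 = 3 := by
        induction l with
        | zero => norm_num
        | succ l ih =>
          rw [show 2 * (l + 1) + 1 = 2 * l + 1 + 2 by ring, pow_add, Nat.mul_mod]
          rcases ih with h | h <;> rw [h] <;> norm_num
      rw [Nat.pow_mod]
      rcases key with h | h <;> rw [h] <;> norm_num
    have := hmod l
    omega

end Ctx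

end CfsgLib.Chev.Suz2
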